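import Cfsg.Agent.Lib.Components.Basic
import Cfsg.Agent.Lib.PCore.Basic
import Mathlib.GroupTheory.Transfer

/-!
# p-components and the p-layer

A p-component of a finite group is the subgroup generated by the p-elements of the full preimage of
its image modulo the p'-core; this gives existence, uniqueness and the basic properties of
p-components and of the p-layer.
-/

set_option autoImplicit false

namespace CfsgLib.Components

open Subgroup
open scoped commutatorElement

variable {G : Type*} [Group G] {G' : Type*} [Group G'] {p : ℕ}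

/-! ### The subgroup generated by the p-elements of a subgroup -/

/-- The subgroup generated by the `p`-elements of the subgroup `Y`. -/
def pElemClosure (p : ℕ) (Y : Subgroup G) : Subgroup G :=
  closure {g : G | g ∈ Y ∧ ∃ n : ℕ, g ^ p ^ n = 1}

theorem pElemClosure_le (Y : Subgroup G) : pElemClosure p Y ≤ Y :=
  (closure_le Y).mpr fun _ hg => hg.1

theorem pElemClosure_mono {Y Z : Subgroup G} (h : Y ≤ Z) : pElemClosure p Y ≤ pElemClosure p Z :=
  closure_mono fun _ hg => ⟨h hg.1, hg.2⟩

theorem mem_pElemClosure {Y : Subgroup G} {g : G} (hg : g ∈ Y) {n : ℕ} (hn : g ^ p ^ n = 1) :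
    g ∈ pElemClosure p Y :=
  subset_closure ⟨hg, n, hn⟩

theorem le_normalizer_pElemClosure {M Y : Subgroup G} (h : M ≤ normalizer (Y : Set G)) :
    M ≤ normalizer (pElemClosure p Y : Set G) := by
  refine le_normalizer_closure_iff.mpr ?_
  rintro g hg x ⟨hx, n, hn⟩
  refine subset_closure ⟨le_normalizer_iff.mp h g hg x hx, n, ?_⟩
  rw [conj_pow, hn, mul_one, mul_inv_cancel]

theorem pElemClosure_normal_subgroupOf (Y : Subgroup G) :
    ((pElemClosure p Y).subgroupOf Y).Normal :=
  (normal_subgroupOf_iff_le_normalizer (pElemClosure_le Y)).mpr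
    (le_normalizer_pElemClosure le_normalizer)

theorem pElemClosure_isSubnormal {Y : Subgroup G} (hY : Y.IsSubnormal) :
    (pElemClosure p Y).IsSubnormal :=
  IsSubnormal.step _ _ (pElemClosure_le Y) hY (pElemClosure_normal_subgroupOf Y)

/-- Taking p-elements commutes with homomorphic images of a finite group. -/
theorem map_pElemClosure [Finite G] [hp : Fact p.Prime] (f : G →* G') (Y : Subgroup G) :
    (pElemClosure p Y).map f = pElemClosure p (Y.map f) := by
  refine le_antisymm ?_ ((closure_le _).mpr ?_)
  · rw [pElemClosure, MonoidHom.map_closure, closure_le]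
    rintro _ ⟨g, ⟨hg, n, hn⟩, rfl⟩
    exact mem_pElemClosure (mem_map_of_mem f hg) (n := n) (by rw [← map_pow, hn, map_one])
  · rintro _ ⟨⟨g, hg, rfl⟩, n, hn⟩
    obtain ⟨a, m, hm, hord⟩ :=
      Nat.exists_eq_pow_mul_and_not_dvd (orderOf_pos g).ne' p hp.out.ne_one
    obtain ⟨u, v, huv⟩ : IsCoprime (m : ℤ) ((p ^ n : ℕ) : ℤ) :=
      Nat.isCoprime_iff_coprime.mpr (((hp.out.coprime_iff_not_dvd.mpr hm).pow_left n).symm)
    refine ⟨g ^ ((m : ℤ) * u), mem_pElemClosure (zpow_mem hg _) (n := a) ?_, ?_⟩
    · rw [← zpow_natCast, ← zpow_mul, mul_assoc, mul_comm u, ← mul_assoc, zpow_mul, ← Nat.cast_mul,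
        zpow_natCast, mul_comm m, ← hord, pow_orderOf_eq_one, one_zpow]
    · rw [map_zpow]
      calc f g ^ ((m : ℤ) * u) = f g ^ (1 - v * ((p ^ n : ℕ) : ℤ)) := by
            congr 1; linear_combination huv
        _ = f g := by
          rw [zpow_sub, zpow_one, mul_comm v, zpow_mul, zpow_natCast, hn, one_zpow, inv_one, mul_one]

/-- A subnormal subgroup of index prime to `p` contains every `p`-element. -/
theorem mem_of_isSubnormal_of_coprime_index [Finite G] {H : Subgroup G} (hH : H.IsSubnormal)
    (hidx : H.index.Coprime p) {g : G} {n : ℕ} (hn : g ^ p ^ n = 1) : g ∈ H := by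
  induction hH with
  | top => exact mem_top g
  | step H K hle _ hN ih =>
    rw [← relIndex_mul_index hle] at hidx
    obtain ⟨h1, h2⟩ := Nat.coprime_mul_iff_left.mp hidx
    have hgK : g ∈ K := ih h2
    haveI := hN
    have hd1 : orderOf (QuotientGroup.mk (⟨g, hgK⟩ : K) : K ⧸ H.subgroupOf K) ∣ p ^ n :=
      orderOf_dvd_of_pow_eq_one (by
        rw [← QuotientGroup.mk_pow, QuotientGroup.eq_one_iff, mem_subgroupOf]
        simp [hn])
    have hd2 : orderOf (QuotientGroup.mk (⟨g, hgK⟩ : K) : K ⧸ H.subgroupOf K) ∣ H.relIndex K :=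
      orderOf_dvd_natCard _
    have h := Nat.eq_one_of_dvd_coprimes ((h1.pow_right n).symm) hd1 hd2
    rw [orderOf_eq_one_iff, QuotientGroup.eq_one_iff, mem_subgroupOf] at h
    exact h

/-- A subnormal subgroup of `Y` of index prime to `p` contains the p-elements of `Y`. -/
theorem pElemClosure_le_of_coprime [Finite G] {H Y : Subgroup G} (hH : H.IsSubnormal)
    (hidx : (H.relIndex Y).Coprime p) : pElemClosure p Y ≤ H := by
  refine (closure_le _).mpr ?_
  rintro g ⟨hg, n, hn⟩
  have hpow : (⟨g, hg⟩ : Y) ^ p ^ n = 1 := Subtype.ext (by simpa using hn)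
  have := mem_of_isSubnormal_of_coprime_index (p := p) (hH.subgroupOf (K := Y)) hidx hpow
  simpa [mem_subgroupOf] using this

/-- A quasisimple group of order divisible by `p` is generated by its `p`-elements. -/
theorem pElemClosure_top_of_quasisimple [Finite G] [hp : Fact p.Prime]
    (h : Cfsg.IsQuasisimple G) (hdvd : p ∣ Nat.card G) : pElemClosure p (⊤ : Subgroup G) = ⊤ := by
  have hN : (pElemClosure p (⊤ : Subgroup G)).Normal :=
    normalizer_eq_top_iff.mp (top_le_iff.mp (le_normalizer_pElemClosure le_normalizer_of_normal))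
  obtain h' | h' := @quasisimple_normal_eq_top_or_le_center G _ h _ hN
  · exact h'
  exfalso
  obtain ⟨P⟩ := (inferInstance : Nonempty (Sylow p G))
  have hPc : (P : Subgroup G) ≤ center G := fun x hx => by
    obtain ⟨n, hn⟩ := P.isPGroup' ⟨x, hx⟩
    exact h' (mem_pElemClosure (mem_top x) (n := n) (by simpa using congrArg Subtype.val hn))
  haveI : IsMulCommutative (P : Subgroup G) :=
    le_centralizer_iff_isMulCommutative.mp fun x hx =>
      mem_centralizer_iff.mpr fun y _ => mem_center_iff.mp (hPc hx) y
  have hPN : normalizer ((P : Subgroup G) : Set G) ≤ centralizer ((P : Subgroup G) : Set G) :=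
    fun x _ => mem_centralizer_iff.mpr fun y hy => (mem_center_iff.mp (hPc hy) x).symm
  have hker : (MonoidHom.transferSylow P hPN).ker = ⊤ := by
    rw [eq_top_iff, ← quasisimple_commutator_eq_top h, _root_.commutator_def, commutator_le]
    intro a _ b _
    rw [MonoidHom.mem_ker, map_commutatorElement, commutatorElement_eq_one_iff_mul_comm]
    exact mul_comm' _ _
  apply MonoidHom.not_dvd_card_ker_transferSylow P hPN
  rw [hker, card_top]
  exact hdvd

theorem pElemClosure_component [Finite G] [Fact p.Prime] {K : Subgroup G}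
    (hK : Cfsg.IsQuasisimple K) (hdvd : p ∣ Nat.card K) : pElemClosure p K = K := by
  have h := congrArg (Subgroup.map K.subtype) (pElemClosure_top_of_quasisimple hK hdvd)
  rwa [map_pElemClosure, ← MonoidHom.range_eq_map, range_subtype] at h

/-! ### p-components -/

variable [Finite G]

theorem dvd_card_component [hp : Fact p.Prime] (hO : Cfsg.pPrimeCore p G = ⊥) {K : Subgroup G}
    (hK : Cfsg.IsComponent K) : p ∣ Nat.card K := by
  by_contra h
  have := CfsgLib.PCore.le_pPrimeCore_of_isSubnormal hK.1
    (CfsgLib.PCore.coprime_of_not_dvd_card h)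
  rw [hO, le_bot_iff] at this
  exact component_ne_bot hK this

theorem comap_mk'_isSubnormal {N : Subgroup G} [N.Normal] {K : Subgroup (G ⧸ N)}
    (hK : K.IsSubnormal) : (K.comap (QuotientGroup.mk' N)).IsSubnormal :=
  hK.comap _

theorem relIndex_dvd_card_of_le_sup {H N Y : Subgroup G} [N.Normal] (hle : H ≤ Y)
    (hY : Y ≤ H ⊔ N) : H.relIndex Y ∣ Nat.card N := by
  have h1 : Nat.card Y ∣ Nat.card N * Nat.card H :=
    (card_dvd_of_le hY).trans (by rw [sup_comm]; exact CfsgLib.PCore.card_sup_dvd_mul N H)
  rw [← relIndex_bot_left, ← relIndex_mul_relIndex ⊥ H Y bot_le hle, relIndex_bot_left,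
    mul_comm (Nat.card N)] at h1
  exact Nat.dvd_of_mul_dvd_mul_left Nat.card_pos h1

/-- A subgroup of the preimage with full image has index prime to `p`. -/
theorem relIndex_comap_coprime {H : Subgroup G} {Kb : Subgroup (G ⧸ Cfsg.pPrimeCore p G)}
    (h : H.map (QuotientGroup.mk' (Cfsg.pPrimeCore p G)) = Kb) :
    (H.relIndex (Kb.comap (QuotientGroup.mk' (Cfsg.pPrimeCore p G)))).Coprime p := by
  subst h
  refine Nat.Coprime.coprime_dvd_left
    (relIndex_dvd_card_of_le_sup (le_comap_map _ _) ?_) CfsgLib.PCore.pPrimeCore_coprime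
  rw [comap_map_eq, QuotientGroup.ker_mk']

variable [Fact p.Prime]

theorem map_pElemClosure_comap {Kb : Subgroup (G ⧸ Cfsg.pPrimeCore p G)}
    (hK : Cfsg.IsComponent Kb) :
    (pElemClosure p (Kb.comap (QuotientGroup.mk' (Cfsg.pPrimeCore p G)))).map
      (QuotientGroup.mk' (Cfsg.pPrimeCore p G)) = Kb := by
  rw [map_pElemClosure, map_comap_eq_self_of_surjective (QuotientGroup.mk'_surjective _),
    pElemClosure_component hK.2
      (dvd_card_component CfsgLib.PCore.pPrimeCore_quotient_pPrimeCore hK)]

/-- The p-elements of the preimage of a component generate a p-component. -/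
theorem isPComponent_pElemClosure_comap {Kb : Subgroup (G ⧸ Cfsg.pPrimeCore p G)}
    (hK : Cfsg.IsComponent Kb) :
    Cfsg.IsPComponent p
      (pElemClosure p (Kb.comap (QuotientGroup.mk' (Cfsg.pPrimeCore p G)))) := by
  refine ⟨pElemClosure_isSubnormal (comap_mk'_isSubnormal hK.1),
    by rw [map_pElemClosure_comap hK]; exact hK, fun H hH hle hmap => ?_⟩
  rw [map_pElemClosure_comap hK] at hmap
  exact le_antisymm hle (pElemClosure_le_of_coprime hH (relIndex_comap_coprime hmap))

/-- A p-component is generated by the p-elements of the full preimage of its image. -/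
theorem pComponent_eq {K : Subgroup G} (hK : Cfsg.IsPComponent p K) :
    K = pElemClosure p
      ((K.map (QuotientGroup.mk' (Cfsg.pPrimeCore p G))).comap
        (QuotientGroup.mk' (Cfsg.pPrimeCore p G))) :=
  (hK.2.2 _ (pElemClosure_isSubnormal (comap_mk'_isSubnormal hK.2.1.1))
    (pElemClosure_le_of_coprime hK.1 (relIndex_comap_coprime rfl))
    (map_pElemClosure_comap hK.2.1)).symm

theorem pComponent_eq_of_map_eq {K L : Subgroup G} (hK : Cfsg.IsPComponent p K)
    (hL : Cfsg.IsPComponent p L)
    (h : K.map (QuotientGroup.mk' (Cfsg.pPrimeCore p G)) =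
      L.map (QuotientGroup.mk' (Cfsg.pPrimeCore p G))) : K = L := by
  rw [pComponent_eq hK, pComponent_eq hL, h]

/-- Each component of `G / O_{p'}(G)` is the image of exactly one p-component. -/
theorem existsUnique_pComponent {Kb : Subgroup (G ⧸ Cfsg.pPrimeCore p G)}
    (hK : Cfsg.IsComponent Kb) :
    ∃! K : Subgroup G, Cfsg.IsPComponent p K ∧
      K.map (QuotientGroup.mk' (Cfsg.pPrimeCore p G)) = Kb :=
  ⟨_, ⟨isPComponent_pElemClosure_comap hK, map_pElemClosure_comap hK⟩,
    fun _ hL => pComponent_eq_of_map_eq hL.1 (isPComponent_pElemClosure_comap hK)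
      (hL.2.trans (map_pElemClosure_comap hK).symm)⟩

theorem pComponent_le_pLayer {K : Subgroup G} (hK : Cfsg.IsPComponent p K) :
    K ≤ Cfsg.pLayer p G :=
  le_sSup hK

/-- The p-layer maps onto the layer of the quotient by the p'-core. -/
theorem map_pLayer :
    (Cfsg.pLayer p G).map (QuotientGroup.mk' (Cfsg.pPrimeCore p G)) =
      Cfsg.layer (G ⧸ Cfsg.pPrimeCore p G) := by
  refine le_antisymm ?_ (sSup_le fun Kb hK => ?_)
  · rw [map_le_iff_le_comap]
    exact sSup_le fun K hK => map_le_iff_le_comap.mp (component_le_layer hK.2.1)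
  · exact (map_pElemClosure_comap hK).ge.trans
      (map_mono (pComponent_le_pLayer (isPComponent_pElemClosure_comap hK)))

theorem pLayer_eq_bot_iff :
    Cfsg.pLayer p G = ⊥ ↔ ∀ Kb : Subgroup (G ⧸ Cfsg.pPrimeCore p G), ¬ Cfsg.IsComponent Kb := by
  constructor
  · intro h Kb hK
    have := (map_pElemClosure_comap hK).ge.trans
      (map_mono (pComponent_le_pLayer (isPComponent_pElemClosure_comap hK)))
    rw [h, Subgroup.map_bot, le_bot_iff] at this
    exact component_ne_bot hK this
  · exact fun h => le_bot_iff.mp (sSup_le fun K hK => absurd hK.2.1 (h _))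

theorem pComponent_ne_bot {K : Subgroup G} (hK : Cfsg.IsPComponent p K) : K ≠ ⊥ := by
  rintro rfl
  exact component_ne_bot hK.2.1 (Subgroup.map_bot _)

theorem pComponent_dvd_card {K : Subgroup G} (hK : Cfsg.IsPComponent p K) : p ∣ Nat.card K :=
  (dvd_card_component CfsgLib.PCore.pPrimeCore_quotient_pPrimeCore hK.2.1).trans
    (card_map_dvd K _)

/-- A p-component is perfect. -/
theorem pComponent_commutator_self {K : Subgroup G} (hK : Cfsg.IsPComponent p K) :
    ⁅K, K⁆ = K := by
  refine hK.2.2 _ ?_ (commutator_le_self K) ?_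
  · rw [← map_subtype_commutator]
    exact (inferInstance : (_root_.commutator K).Normal).isSubnormal.trans' hK.1
  · rw [map_commutator, component_commutator_self hK.2.1]

theorem pComponent_le_pElemClosure {K : Subgroup G} (hK : Cfsg.IsPComponent p K) :
    K ≤ pElemClosure p K := by
  have h : pElemClosure p K ≤ K := pElemClosure_le K
  refine (hK.2.2 _ (pElemClosure_isSubnormal hK.1) h ?_).ge
  rw [map_pElemClosure, pElemClosure_component hK.2.1.2
    (dvd_card_component CfsgLib.PCore.pPrimeCore_quotient_pPrimeCore hK.2.1)]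

/-- A p-component has no proper normal subgroup of index prime to `p`. -/
theorem pComponent_eq_top_of_coprime_index {K : Subgroup G} (hK : Cfsg.IsPComponent p K)
    (N : Subgroup K) [hN : N.Normal] (hidx : N.index.Coprime p) : N = ⊤ := by
  apply map_injective (subtype_injective K)
  rw [← MonoidHom.range_eq_map, range_subtype]
  refine le_antisymm (map_subtype_le N) ((pComponent_le_pElemClosure hK).trans
    (pElemClosure_le_of_coprime (hN.isSubnormal.trans' hK.1) ?_))
  rw [relIndex, subgroupOf, comap_map_eq_self_of_injective (subtype_injective K)]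
  exact hidx

/-- A p-component is minimal among the subnormal perfect subgroups of order divisible by `p`. -/
theorem pComponent_eq_of_perfect_le {K H : Subgroup G} (hK : Cfsg.IsPComponent p K) (hle : H ≤ K)
    (hH : H.IsSubnormal) (hperf : ⁅H, H⁆ = H) (hdvd : p ∣ Nat.card H) : H = K := by
  refine hK.2.2 H hH hle ?_
  refine (component_eq_or_commutator_of_subnormal hK.2.1
    (hH.map (QuotientGroup.mk'_surjective _)) (map_mono hle)).resolve_right fun h => ?_
  have h' : ⁅H.map (QuotientGroup.mk' (Cfsg.pPrimeCore p G)),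
      H.map (QuotientGroup.mk' (Cfsg.pPrimeCore p G))⁆ = ⊥ :=
    le_bot_iff.mp ((commutator_mono (map_mono hle) le_rfl).trans h.le)
  rw [← map_commutator, hperf, Subgroup.map_eq_bot_iff, QuotientGroup.ker_mk'] at h'
  exact CfsgLib.PCore.not_dvd_card_pPrimeCore (hdvd.trans (card_dvd_of_le h'))

/-- p-components normalize each other. -/
theorem pComponent_le_normalizer {K L : Subgroup G} (hK : Cfsg.IsPComponent p K)
    (hL : Cfsg.IsPComponent p L) : L ≤ normalizer (K : Set G) := by
  rw [pComponent_eq hK]
  refine le_normalizer_pElemClosure ?_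
  exact ((le_comap_map _ L).trans (comap_mono (component_le_normalizer hL.2.1 hK.2.1))).trans
    (le_normalizer_comap _)

theorem pLayer_le_normalizer {K : Subgroup G} (hK : Cfsg.IsPComponent p K) :
    Cfsg.pLayer p G ≤ normalizer (K : Set G) :=
  sSup_le fun _ hL => pComponent_le_normalizer hK hL

/-- The p'-core of a subnormal subgroup is its intersection with the p'-core. -/
theorem map_pPrimeCore_eq_inf {K : Subgroup G} (hK : K.IsSubnormal) :
    (Cfsg.pPrimeCore p K).map K.subtype = K ⊓ Cfsg.pPrimeCore p G :=
  le_antisymm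
    (le_inf (map_subtype_le _) (CfsgLib.PCore.map_pPrimeCore_subtype_of_isSubnormal hK))
    (CfsgLib.PCore.inf_pPrimeCore_le_map K)

/-- A p-component modulo its p'-core is quasisimple. -/
theorem pComponent_quotient_quasisimple {K : Subgroup G} (hK : Cfsg.IsPComponent p K) :
    Cfsg.IsQuasisimple (K ⧸ Cfsg.pPrimeCore p K) := by
  have hker : ((QuotientGroup.mk' (Cfsg.pPrimeCore p G)).subgroupMap K).ker =
      Cfsg.pPrimeCore p K := by
    apply map_injective (subtype_injective K)
    rw [map_pPrimeCore_eq_inf hK.1]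
    ext x
    simp only [mem_map, MonoidHom.mem_ker, Subtype.ext_iff, mem_inf, subtype_apply]
    constructor
    · rintro ⟨y, hy, rfl⟩
      exact ⟨y.2, by simpa using hy⟩
    · rintro ⟨h1, h2⟩
      exact ⟨⟨x, h1⟩, by simpa using h2, rfl⟩
  exact isQuasisimple_of_mulEquiv hK.2.1.2
    (((QuotientGroup.quotientMulEquivOfEq hker).symm).trans
      (QuotientGroup.quotientKerEquivOfSurjective _
        ((QuotientGroup.mk' (Cfsg.pPrimeCore p G)).subgroupMap_surjective K))).symm

/-- A p-component is quasisimple exactly when it centralizes its p'-core. -/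
theorem pComponent_quasisimple_iff {K : Subgroup G} (hK : Cfsg.IsPComponent p K) :
    Cfsg.IsQuasisimple K ↔ ⁅K, (Cfsg.pPrimeCore p K).map K.subtype⁆ = ⊥ := by
  constructor
  · intro h
    have hle : (Cfsg.pPrimeCore p K).map K.subtype ≤ K := map_subtype_le _
    obtain h' | h' := quasisimple_normal_eq_top_or_le_center h (Cfsg.pPrimeCore p K)
    · exfalso
      apply pComponent_ne_bot hK
      have hdvd := pComponent_dvd_card hK
      rw [← card_top (G := K), ← h'] at hdvd
      exact absurd hdvd CfsgLib.PCore.not_dvd_card_pPrimeCore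
    · rw [← commutator_subgroupOf_eq_bot_iff le_rfl hle, subgroupOf_self,
        commutator_top_left_eq_bot_iff_le_center, subgroupOf,
        comap_map_eq_self_of_injective (subtype_injective K)]
      exact h'
  · intro hc
    rw [map_pPrimeCore_eq_inf hK.1] at hc
    haveI : Nontrivial K := K.nontrivial_iff_ne_bot.mpr (pComponent_ne_bot hK)
    refine isQuasisimple_of_normal ?_ fun N hN hne => ?_
    · apply map_injective (subtype_injective K)
      rw [map_subtype_commutator, pComponent_commutator_self hK, ← MonoidHom.range_eq_map,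
        range_subtype]
    have hNs : (N.map K.subtype).IsSubnormal := hN.isSubnormal.trans' hK.1
    obtain h | h := component_eq_or_commutator_of_subnormal hK.2.1
      (hNs.map (QuotientGroup.mk'_surjective (Cfsg.pPrimeCore p G))) (map_mono (map_subtype_le N))
    · exfalso
      apply hne
      apply map_injective (subtype_injective K)
      rw [← MonoidHom.range_eq_map, range_subtype]
      exact hK.2.2 _ hNs (map_subtype_le N) h
    · rw [← map_commutator, Subgroup.map_eq_bot_iff, QuotientGroup.ker_mk'] at h
      have h1 : ⁅K, N.map K.subtype⁆ ≤ K ⊓ Cfsg.pPrimeCore p G :=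
        le_inf ((commutator_mono le_rfl (map_subtype_le N)).trans (commutator_le_self K)) h
      have h2 : ⁅K, N.map K.subtype⁆ = ⊥ :=
        commutator_eq_bot_of_perfect (pComponent_commutator_self hK)
          (le_bot_iff.mp ((commutator_mono h1 le_rfl).trans (by rw [commutator_comm, hc])))
      rwa [← commutator_subgroupOf_eq_bot_iff le_rfl (map_subtype_le N), subgroupOf_self,
        commutator_top_left_eq_bot_iff_le_center, subgroupOf,
        comap_map_eq_self_of_injective (subtype_injective K)] at h2

/-- Distinct p-components commute modulo their p'-cores. -/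
theorem commutator_pComponents_le {K L : Subgroup G} (hK : Cfsg.IsPComponent p K)
    (hL : Cfsg.IsPComponent p L) (hne : K ≠ L) :
    ⁅K, L⁆ ≤ (K ⊓ Cfsg.pPrimeCore p G) ⊓ (L ⊓ Cfsg.pPrimeCore p G) := by
  have h : ⁅K, L⁆ ≤ Cfsg.pPrimeCore p G := by
    have := commutator_components_eq_bot hK.2.1 hL.2.1
      fun h => hne (pComponent_eq_of_map_eq hK hL h)
    rwa [← map_commutator, Subgroup.map_eq_bot_iff, QuotientGroup.ker_mk'] at this
  exact le_inf (le_inf (le_normalizer_iff_commutator_le_left.mp (pComponent_le_normalizer hK hL)) h)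
    (le_inf (le_normalizer_iff_commutator_le_right.mp (pComponent_le_normalizer hL hK)) h)

theorem commutator_pComponents_eq_bot {K L : Subgroup G} (hK : Cfsg.IsPComponent p K)
    (hL : Cfsg.IsPComponent p L) (hne : K ≠ L) (hq : Cfsg.IsQuasisimple K) : ⁅K, L⁆ = ⊥ := by
  have hc := (pComponent_quasisimple_iff hK).mp hq
  rw [map_pPrimeCore_eq_inf hK.1] at hc
  refine commutator_eq_bot_of_perfect (pComponent_commutator_self hK) (le_bot_iff.mp ?_)
  exact (commutator_mono ((commutator_pComponents_le hK hL hne).trans inf_le_left) le_rfl).trans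
    (by rw [commutator_comm, hc])

/-- A component not inside the p'-core is a p-component. -/
theorem isPComponent_of_isComponent {C : Subgroup G} (hC : Cfsg.IsComponent C)
    (h : Cfsg.IsComponent (C.map (QuotientGroup.mk' (Cfsg.pPrimeCore p G)))) :
    Cfsg.IsPComponent p C := by
  refine ⟨hC.1, h, fun H hH hle hmap => (component_eq_or_commutator_of_subnormal hC hH hle).resolve_right
    fun h0 => component_commutator_ne_bot h ?_⟩
  conv_lhs => arg 2; rw [← hmap]
  rw [← map_commutator, h0, Subgroup.map_bot]

/-- The layer maps onto the layer of the quotient by the p'-core exactly when every p-component is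
a component. -/
theorem map_layer_eq_iff :
    (Cfsg.layer G).map (QuotientGroup.mk' (Cfsg.pPrimeCore p G)) =
        Cfsg.layer (G ⧸ Cfsg.pPrimeCore p G) ↔ Cfsg.pLayer p G ≤ Cfsg.layer G := by
  refine ⟨fun h => sSup_le fun K hK => ?_,
    fun h => le_antisymm (map_layer_le_of_surjective (QuotientGroup.mk'_surjective _))
      (map_pLayer.ge.trans (map_mono h))⟩
  by_cases hex : ∃ C : Subgroup G, Cfsg.IsComponent C ∧
      C.map (QuotientGroup.mk' (Cfsg.pPrimeCore p G)) =
        K.map (QuotientGroup.mk' (Cfsg.pPrimeCore p G))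
  · obtain ⟨C, hC, hmap⟩ := hex
    rw [← pComponent_eq_of_map_eq (isPComponent_of_isComponent hC (hmap ▸ hK.2.1)) hK hmap]
    exact component_le_layer hC
  exfalso
  push Not at hex
  have hle : (Cfsg.layer G).map (QuotientGroup.mk' (Cfsg.pPrimeCore p G)) ≤
      centralizer ((K.map (QuotientGroup.mk' (Cfsg.pPrimeCore p G)) :
        Subgroup (G ⧸ Cfsg.pPrimeCore p G)) : Set (G ⧸ Cfsg.pPrimeCore p G)) := by
    rw [map_le_iff_le_comap]
    refine sSup_le fun C hC => map_le_iff_le_comap.mp ?_
    obtain h0 | h1 := map_component_eq_bot_or_isComponent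
      (QuotientGroup.mk'_surjective (Cfsg.pPrimeCore p G)) hC
    · exact h0.le.trans bot_le
    · exact le_centralizer_of_commutator_eq_bot
        (commutator_components_eq_bot h1 hK.2.1 (hex C hC))
  apply component_commutator_ne_bot hK.2.1
  rw [commutator_eq_bot_iff_le_centralizer]
  exact (component_le_layer hK.2.1).trans (h.ge.trans hle)

end CfsgLib.Components
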