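import Cfsg.Agent.Lib.Components.FStar
import Cfsg.Agent.Lib.Components.PComponent
import Cfsg.Agent.Lib.OddOrder41.Coprime

/-!
# Local subgroups: the A×B lemma, lifting normalizers, layers of p-local subgroups
-/

set_option autoImplicit false

namespace CfsgLib.Components

open Subgroup
open scoped commutatorElement Pointwise

variable {G : Type*} [Group G] [Finite G] {G' : Type*} [Group G'] {p : ℕ}

/-! ### The A×B lemma -/

/-- **A×B lemma**: a `p'`-element centralizing the `p`-group `P` and the fixed points of `P` on the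
`p`-group `R` centralizes `R`. -/
theorem mem_centralizer_of_AxB [hp : Fact p.Prime] {R P : Subgroup G} (hR : IsPGroup p R)
    (hP : IsPGroup p P) (hPR : P ≤ normalizer (R : Set G)) {x : G} (hxR : x ∈ normalizer (R : Set G))
    (hxP : x ∈ centralizer (P : Set G)) (hx : (orderOf x).Coprime p)
    (hfix : ∀ r ∈ R, r ∈ centralizer (P : Set G) → x * r = r * x) :
    x ∈ centralizer (R : Set G) := by
  have hH : IsPGroup p ↥(R ⊔ P) := hR.to_sup_of_normal_left' hP hPR
  obtain ⟨n, hn⟩ := IsPGroup.iff_card.mp hH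
  have hcop : (Nat.card (zpowers x)).Coprime (Nat.card ↥(R ⊔ P)) := by
    rw [Nat.card_zpowers, hn]
    exact hx.pow_right n
  have hxH : zpowers x ≤ normalizer ((R ⊔ P : Subgroup G) : Set G) := by
    rw [zpowers_le]
    have hxP' := centralizer_le_normalizer (P : Set G) hxP
    exact CfsgLib.Structure.le_normalizer_sup_of_le (zpowers_le.mpr hxR) (zpowers_le.mpr hxP')
      (mem_zpowers x)
  have hle : P ≤ (R ⊔ P) ⊓ centralizer (zpowers x : Set G) :=
    le_inf le_sup_right (le_centralizer_iff.mp (zpowers_le.mpr hxP))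
  have key := CfsgLib.OddOrder41.le_centralizer_of_centralizer_fixed_le (R ⊔ P) (zpowers x)
    hH.isNilpotent hxH hcop ?_
  · exact centralizer_le (SetLike.coe_subset_coe.mpr le_sup_left) (key (mem_zpowers x))
  intro y hyy
  obtain ⟨hy, hyC⟩ := mem_inf.mp hyy
  refine mem_inf.mpr ⟨hy, mem_centralizer_iff.mpr fun h hh => ?_⟩
  have hyP : y ∈ centralizer (P : Set G) := centralizer_le (SetLike.coe_subset_coe.mpr hle) hyC
  have hzC : x * y * x⁻¹ * y⁻¹ ∈ centralizer (P : Set G) :=
    mul_mem (mul_mem (mul_mem hxP hyP) (inv_mem hxP)) (inv_mem hyP)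
  have hy' : y ∈ (R : Set G) * (P : Set G) := by
    rw [← coe_mul_of_right_le_normalizer_left R P hPR]
    exact hy
  obtain ⟨r, hr, u, hu, rfl⟩ := Set.mem_mul.mp hy'
  have hxu : x * u = u * x := (mem_centralizer_iff.mp hxP u hu).symm
  have hzR : x * (r * u) * x⁻¹ * (r * u)⁻¹ ∈ R := by
    have : x * (r * u) * x⁻¹ * (r * u)⁻¹ = (x * r * x⁻¹) * r⁻¹ := by
      calc x * (r * u) * x⁻¹ * (r * u)⁻¹ = x * r * (u * x⁻¹) * u⁻¹ * r⁻¹ := by group
        _ = x * r * (x⁻¹ * (x * u) * x⁻¹) * u⁻¹ * r⁻¹ := by group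
        _ = x * r * (x⁻¹ * (u * x) * x⁻¹) * u⁻¹ * r⁻¹ := by rw [hxu]
        _ = _ := by group
    rw [this]
    exact mul_mem (le_normalizer_iff.mp (zpowers_le.mpr hxR) x (mem_zpowers x) r hr) (inv_mem hr)
  obtain ⟨k, rfl⟩ := mem_zpowers_iff.mp hh
  refine (Commute.zpow_left ?_ k).eq
  have hyR : r * u ∈ normalizer (R : Set G) := mul_mem (le_normalizer hr) (hPR hu)
  have hw : (r * u)⁻¹ * x * (r * u) * x⁻¹ =
      (r * u)⁻¹ * (x * (r * u) * x⁻¹ * (r * u)⁻¹) * ((r * u)⁻¹)⁻¹ := by group
  have hwR : (r * u)⁻¹ * x * (r * u) * x⁻¹ ∈ R := by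
    rw [hw]
    exact (mem_normalizer_iff.mp (inv_mem hyR) _).mp hzR
  have hwC : (r * u)⁻¹ * x * (r * u) * x⁻¹ ∈ centralizer (P : Set G) :=
    mul_mem (mul_mem (mul_mem (inv_mem hyP) hxP) hyP) (inv_mem hxP)
  refine CfsgLib.OddOrder41.fixes_of_step_fixed
    (CfsgLib.OddOrder41.orderOf_coprime_card_of_mem (mem_zpowers x) hcop) (mem_sup_left hwR)
    (by group) ?_
  rw [hfix _ hwR hwC, mul_inv_cancel_right]

/-! ### Subgroups generated by `p'`-elements -/

/-- If `K = [K,K] O` with `O` a p'-group, a subgroup normalized by `K` containing all p'-elements of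
`K` contains `K`. -/
theorem le_of_forall_coprime_mem [hp : Fact p.Prime] {K O D : Subgroup G}
    (hK : K ≤ ⁅K, K⁆ ⊔ O) (hOK : O ≤ K) (hO : (Nat.card O).Coprime p)
    (hD : K ≤ normalizer (D : Set G)) (h : ∀ x ∈ K, (orderOf x).Coprime p → x ∈ D) : K ≤ D := by
  have hO' : O ≤ D := fun x hx => h x (hOK hx) (hO.coprime_dvd_left (orderOf_dvd_natCard O hx))
  have hN : ((D ⊓ K).subgroupOf K).Normal :=
    (normal_subgroupOf_iff_le_normalizer inf_le_right).mpr fun x hx =>
      inf_normalizer_le_normalizer_inf ⟨hD hx, le_normalizer hx⟩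
  set D' := (D ⊓ K).subgroupOf K
  have hQ : IsPGroup p (K ⧸ D') := by
    intro q
    obtain ⟨k, rfl⟩ := QuotientGroup.mk'_surjective D' q
    obtain ⟨a, m, hm, hord⟩ :=
      Nat.exists_eq_pow_mul_and_not_dvd (orderOf_pos (k : G)).ne' p hp.out.ne_one
    refine ⟨a, ?_⟩
    rw [← map_pow, QuotientGroup.mk'_apply, QuotientGroup.eq_one_iff, mem_subgroupOf]
    refine ⟨h _ (k ^ p ^ a).2 ?_, (k ^ p ^ a).2⟩
    rw [coe_pow, orderOf_pow_of_dvd (pow_ne_zero _ hp.out.ne_zero) (hord ▸ dvd_mul_right _ _), hord,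
      Nat.mul_div_cancel_left _ (pow_pos hp.out.pos a)]
    exact (hp.out.coprime_iff_not_dvd.mpr hm).symm
  haveI : Group.IsPerfect (K ⧸ D') := by
    refine ⟨top_le_iff.mp ?_⟩
    rw [← Subgroup.map_top_of_surjective _ (QuotientGroup.mk'_surjective D'), map_le_iff_le_comap]
    have hmap : (⊤ : Subgroup K) ≤ _root_.commutator K ⊔ D' := by
      apply (map_le_map_iff_of_injective (subtype_injective K)).mp
      rw [← MonoidHom.range_eq_map, range_subtype, Subgroup.map_sup, map_subtype_commutator,
        map_subgroupOf_eq_of_le inf_le_right]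
      exact hK.trans (sup_le_sup le_rfl (le_inf hO' hOK))
    refine hmap.trans (sup_le ?_ ?_)
    · rw [← map_le_iff_le_comap, map_commutator_eq]
      exact commutator_mono le_top le_top
    · intro d hd
      rw [mem_comap, QuotientGroup.mk'_apply, (QuotientGroup.eq_one_iff d).mpr hd]
      exact one_mem _
  have : Subsingleton (K ⧸ D') := by
    by_contra hns
    haveI : Nontrivial (K ⧸ D') := not_subsingleton_iff_nontrivial.mp hns
    exact Group.IsPerfect.not_isNilpotent (K ⧸ D') hQ.isNilpotent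
  have htop : D' = ⊤ := QuotientGroup.subgroup_eq_top_of_subsingleton D' this
  exact fun x hx => (subgroupOf_eq_top.mp htop hx).1

theorem le_of_forall_coprime_mem_of_perfect [Fact p.Prime] {K D : Subgroup G}
    (hK : ⁅K, K⁆ = K) (hD : K ≤ normalizer (D : Set G))
    (h : ∀ x ∈ K, (orderOf x).Coprime p → x ∈ D) : K ≤ D :=
  le_of_forall_coprime_mem (O := ⊥) (by rw [hK]; exact le_sup_left) bot_le (by simp) hD h

/-! ### The preimage of the layer of `G / O_{p'}(G)` -/

/-- The full preimage in `G` of the layer of `G / O_{p'}(G)`. -/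
def layerPreimage (p : ℕ) (G : Type*) [Group G] : Subgroup G :=
  (Cfsg.layer (G ⧸ Cfsg.pPrimeCore p G)).comap (QuotientGroup.mk' (Cfsg.pPrimeCore p G))

theorem pPrimeCore_le_layerPreimage : Cfsg.pPrimeCore p G ≤ layerPreimage p G := fun x hx => by
  rw [layerPreimage, mem_comap, QuotientGroup.mk'_apply, (QuotientGroup.eq_one_iff x).mpr hx]
  exact one_mem _

instance layerPreimage_normal : (layerPreimage p G).Normal :=
  Subgroup.Normal.comap inferInstance _

theorem layerPreimage_le_commutator_sup :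
    layerPreimage p G ≤ ⁅layerPreimage p G, layerPreimage p G⁆ ⊔ Cfsg.pPrimeCore p G := by
  intro x hx
  rw [← QuotientGroup.ker_mk' (Cfsg.pPrimeCore p G), ← comap_map_eq, mem_comap, map_commutator,
    layerPreimage, map_comap_eq_self_of_surjective (QuotientGroup.mk'_surjective _),
    commutator_layer_self]
  exact hx

/-- The preimage of the layer centralizes every normal `p`-subgroup. -/
theorem layerPreimage_le_centralizer [Fact p.Prime] {V : Subgroup G} [hV : V.Normal]
    (hVp : IsPGroup p V) : layerPreimage p G ≤ centralizer (V : Set G) := by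
  apply le_centralizer_of_commutator_eq_bot
  rw [eq_bot_iff, ← CfsgLib.PCore.inf_eq_bot_of_isPGroup_coprime hVp
    (CfsgLib.PCore.pPrimeCore_coprime (p := p) (G := G))]
  refine le_inf (commutator_le_right _ V) ?_
  rw [← QuotientGroup.ker_mk' (Cfsg.pPrimeCore p G), ← Subgroup.map_eq_bot_iff, map_commutator,
    layerPreimage, map_comap_eq_self_of_surjective (QuotientGroup.mk'_surjective _)]
  haveI := hV.map (QuotientGroup.mk' (Cfsg.pPrimeCore p G)) (QuotientGroup.mk'_surjective _)
  haveI : Group.IsSolvable (V.map (QuotientGroup.mk' (Cfsg.pPrimeCore p G))) :=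
    haveI := (hVp.map (QuotientGroup.mk' (Cfsg.pPrimeCore p G))).isNilpotent
    inferInstance
  exact commutator_layer_solvable _

/-- A surjection maps the preimage of the layer into the preimage of the layer. -/
theorem map_layerPreimage_le [Fact p.Prime] {f : G →* G'} (hf : Function.Surjective f) :
    (layerPreimage p G).map f ≤ layerPreimage p G' := by
  haveI : Finite G' := Finite.of_surjective f hf
  have hle : Cfsg.pPrimeCore p G ≤ (Cfsg.pPrimeCore p G').comap f :=
    map_le_iff_le_comap.mp (CfsgLib.PCore.map_pPrimeCore_le f hf)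
  let g := QuotientGroup.map (Cfsg.pPrimeCore p G) (Cfsg.pPrimeCore p G') f hle
  have hg : Function.Surjective g := by
    intro q
    obtain ⟨y, rfl⟩ := QuotientGroup.mk'_surjective _ q
    obtain ⟨x, rfl⟩ := hf y
    exact ⟨QuotientGroup.mk x, rfl⟩
  rintro _ ⟨x, hx, rfl⟩
  exact map_layer_le_of_surjective hg ⟨_, hx, rfl⟩

/-! ### Normal `p`-subgroups of a local subgroup -/

omit [Finite G] in
theorem normal_inf_centralizer_subgroupOf_normalizer {R : Subgroup G} [R.Normal] (P : Subgroup G) :
    ((R ⊓ centralizer (P : Set G)).subgroupOf (normalizer (P : Set G))).Normal := by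
  refine ⟨fun c hc n => ?_⟩
  simp only [mem_subgroupOf, mem_inf, mem_centralizer_iff, Subgroup.coe_mul, Subgroup.coe_inv,
    SetLike.mem_coe] at hc ⊢
  refine ⟨(inferInstance : R.Normal).conj_mem _ hc.1 _, fun u hu => ?_⟩
  have := hc.2 _ ((mem_normalizer_iff.mp (inv_mem n.2) u).mp hu)
  calc u * ((n : G) * c * (n : G)⁻¹) = (n : G) * (((n : G)⁻¹ * u * (n : G)⁻¹⁻¹) * c) * (n : G)⁻¹ := by
        group
    _ = (n : G) * (c * ((n : G)⁻¹ * u * (n : G)⁻¹⁻¹)) * (n : G)⁻¹ := by rw [this]
    _ = (n : G) * c * (n : G)⁻¹ * u := by group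

theorem pPrimeElement_mem_centralizer_pCore [Fact p.Prime] {P : Subgroup G} (hP : IsPGroup p P)
    {x : G} (hx : (orderOf x).Coprime p) (hxP : x ∈ centralizer (P : Set G))
    (hfix : ∀ r ∈ Cfsg.pCore p G, r ∈ centralizer (P : Set G) → x * r = r * x) :
    x ∈ centralizer (Cfsg.pCore p G : Set G) :=
  mem_centralizer_of_AxB CfsgLib.PCore.pCore_isPGroup hP le_normalizer_of_normal
    (le_normalizer_of_normal (mem_top x)) hxP hx hfix

/-- An element of `C_{N(P)}(O_p(N(P)))` of order prime to `p` centralizes `O_p(G)`. -/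
theorem mem_centralizer_pCore_of_local [Fact p.Prime] {P : Subgroup G} (hP : IsPGroup p P)
    {x : normalizer (P : Set G)} (hx : (orderOf x).Coprime p)
    (hxc : x ∈ centralizer (Cfsg.pCore p (normalizer (P : Set G)) : Set (normalizer (P : Set G)))) :
    (x : G) ∈ centralizer (Cfsg.pCore p G : Set G) := by
  have hPn : (P.subgroupOf (normalizer (P : Set G))).Normal :=
    normal_subgroupOf_of_le_normalizer le_rfl
  have h1 : ∀ u ∈ P, u * x = (x : G) * u := fun u hu =>
    congrArg Subtype.val (mem_centralizer_iff.mp hxc ⟨u, le_normalizer hu⟩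
      (CfsgLib.PCore.le_pCore (p := p) hPn (hP.comap_subtype) hu))
  refine pPrimeElement_mem_centralizer_pCore hP (by rwa [Subgroup.orderOf_coe])
    (mem_centralizer_iff.mpr h1) fun r hr hrc => ?_
  have hle : (Cfsg.pCore p G ⊓ centralizer (P : Set G)).subgroupOf (normalizer (P : Set G)) ≤
      Cfsg.pCore p _ :=
    CfsgLib.PCore.le_pCore (normal_inf_centralizer_subgroupOf_normalizer P)
      (((CfsgLib.PCore.pCore_isPGroup (p := p)).to_le inf_le_left).comap_subtype)
  exact (congrArg Subtype.val (mem_centralizer_iff.mp hxc ⟨r, centralizer_le_normalizer _ hrc⟩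
    (hle ⟨hr, hrc⟩))).symm

/-- The preimage of the layer of a p-local subgroup centralizes `O_p(G)`. -/
theorem map_layerPreimage_normalizer_le [Fact p.Prime] {P : Subgroup G} (hP : IsPGroup p P) :
    (layerPreimage p (normalizer (P : Set G))).map (normalizer (P : Set G)).subtype ≤
      centralizer (Cfsg.pCore p G : Set G) := by
  set N := normalizer (P : Set G)
  refine le_of_forall_coprime_mem (p := p) (O := (Cfsg.pPrimeCore p N).map N.subtype) ?_
    (map_mono pPrimeCore_le_layerPreimage) ?_ le_normalizer_of_normal ?_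
  · rw [← map_commutator, ← Subgroup.map_sup]
    exact map_mono layerPreimage_le_commutator_sup
  · rw [card_map_of_injective N.subtype_injective]
    exact CfsgLib.PCore.pPrimeCore_coprime
  · rintro _ ⟨x, hx, rfl⟩ hord
    refine mem_centralizer_pCore_of_local hP (x := x) (by rwa [subtype_apply, Subgroup.orderOf_coe] at hord) ?_
    exact layerPreimage_le_centralizer (p := p) CfsgLib.PCore.pCore_isPGroup hx

/-- If `P ≤ O_p(G)`, the layer of `N_G(P)` is the layer of `G`. -/
theorem map_layer_normalizer_eq [Fact p.Prime] {P : Subgroup G} (hP : P ≤ Cfsg.pCore p G) :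
    (Cfsg.layer (normalizer (P : Set G))).map (normalizer (P : Set G)).subtype = Cfsg.layer G := by
  set N := normalizer (P : Set G) with hNdef
  have hRs : Group.IsSolvable (Cfsg.pCore p G) :=
    haveI := (CfsgLib.PCore.pCore_isPGroup (p := p) (G := G)).isNilpotent
    inferInstance
  have hCN : centralizer (Cfsg.pCore p G : Set G) ≤ N :=
    (centralizer_le (SetLike.coe_subset_coe.mpr hP)).trans (centralizer_le_normalizer _)
  refine le_antisymm ?_ (sSup_le fun L hL => ?_)
  · rw [map_le_iff_le_comap]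
    refine sSup_le fun K hK => map_le_iff_le_comap.mp ?_
    have hperf : ⁅K.map N.subtype, K.map N.subtype⁆ = K.map N.subtype := by
      rw [← map_commutator, component_commutator_self hK]
    have hKC : K.map N.subtype ≤ centralizer (Cfsg.pCore p G : Set G) := by
      refine le_of_forall_coprime_mem_of_perfect (p := p) hperf le_normalizer_of_normal ?_
      rintro _ ⟨x, hx, rfl⟩ hord
      refine mem_centralizer_pCore_of_local (CfsgLib.PCore.pCore_isPGroup.to_le hP) (x := x)
        (by rwa [subtype_apply, Subgroup.orderOf_coe] at hord) ?_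
      have hOs : Group.IsSolvable (Cfsg.pCore p N) :=
        haveI := (CfsgLib.PCore.pCore_isPGroup (p := p) (G := N)).isNilpotent
        inferInstance
      exact le_centralizer_of_commutator_eq_bot
        (component_commutator_solvable hK hOs le_normalizer_of_normal) hx
    refine component_le_layer ⟨?_, isQuasisimple_of_mulEquiv hK.2
      (K.equivMapOfInjective _ N.subtype_injective)⟩
    refine IsSubnormal.trans hKC ?_
      (inferInstance : (centralizer (Cfsg.pCore p G : Set G)).Normal).isSubnormal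
    have hcomap : (K.map N.subtype).subgroupOf (centralizer (Cfsg.pCore p G : Set G)) =
        K.comap (inclusion hCN) := by
      rw [subgroupOf, show (centralizer (Cfsg.pCore p G : Set G)).subtype =
        N.subtype.comp (inclusion hCN) from rfl, ← comap_comap,
        comap_map_eq_self_of_injective N.subtype_injective]
    rw [hcomap]
    exact hK.1.comap _
  · have hLN : L ≤ N := (le_centralizer_of_commutator_eq_bot
      (component_commutator_solvable hL hRs le_normalizer_of_normal)).trans hCN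
    rw [← map_subgroupOf_eq_of_le hLN]
    exact map_mono (component_le_layer (isComponent_subgroupOf hL hLN))

/-- If no element `≠ 1` of order prime to `p` centralizes `O_p`, then `C(O_p) ≤ O_p`. -/
theorem centralizer_pCore_le_of_forall [hp : Fact p.Prime]
    (h : ∀ x ∈ centralizer (Cfsg.pCore p G : Set G), (orderOf x).Coprime p → x = 1) :
    centralizer (Cfsg.pCore p G : Set G) ≤ Cfsg.pCore p G := by
  refine CfsgLib.PCore.le_pCore inferInstance fun ⟨g, hg⟩ => ?_
  obtain ⟨a, m, hm, hord⟩ := Nat.exists_eq_pow_mul_and_not_dvd (orderOf_pos g).ne' p hp.out.ne_one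
  refine ⟨a, Subtype.ext (h (g ^ p ^ a) (pow_mem hg _) ?_)⟩
  rw [orderOf_pow_of_dvd (pow_ne_zero _ hp.out.ne_zero) (hord ▸ dvd_mul_right _ _), hord,
    Nat.mul_div_cancel_left _ (pow_pos hp.out.pos a)]
  exact (hp.out.coprime_iff_not_dvd.mpr hm).symm

theorem eq_one_of_mem_pCore_of_coprime [hp : Fact p.Prime] {x : G} (hx : x ∈ Cfsg.pCore p G)
    (hord : (orderOf x).Coprime p) : x = 1 := by
  have h := CfsgLib.PCore.inf_eq_bot_of_isPGroup_coprime (CfsgLib.PCore.pCore_isPGroup (p := p) (G := G))
    (B := zpowers x) (by rwa [Nat.card_zpowers])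
  exact mem_bot.mp (h ▸ ⟨hx, mem_zpowers x⟩)

/-- If `C(O_p(G)) ≤ O_p(G)`, the same holds in the normalizer of any p-subgroup. -/
theorem centralizer_pCore_normalizer_le [Fact p.Prime]
    (h : centralizer (Cfsg.pCore p G : Set G) ≤ Cfsg.pCore p G) {P : Subgroup G} (hP : IsPGroup p P) :
    centralizer (Cfsg.pCore p (normalizer (P : Set G)) : Set (normalizer (P : Set G))) ≤
      Cfsg.pCore p (normalizer (P : Set G)) :=
  centralizer_pCore_le_of_forall fun _ hx hord =>
    Subtype.ext (eq_one_of_mem_pCore_of_coprime (h (mem_centralizer_pCore_of_local hP hord hx))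
      (by rwa [Subgroup.orderOf_coe]))

theorem not_isComponent_of_centralizer_pCore_le [Fact p.Prime]
    (h : centralizer (Cfsg.pCore p G : Set G) ≤ Cfsg.pCore p G) (K : Subgroup G) :
    ¬ Cfsg.IsComponent K := fun hK => by
  have hRs : Group.IsSolvable (Cfsg.pCore p G) :=
    haveI := (CfsgLib.PCore.pCore_isPGroup (p := p) (G := G)).isNilpotent
    inferInstance
  have hle := (le_centralizer_of_commutator_eq_bot
    (component_commutator_solvable hK hRs le_normalizer_of_normal)).trans h
  haveI := hRs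
  exact component_not_isSolvable hK
    (Group.isSolvable_of_isSolvable_injective (inclusion_injective hle))

theorem pPrimeCore_eq_bot_of_centralizer_le [Fact p.Prime]
    (h : centralizer (Cfsg.pCore p G : Set G) ≤ Cfsg.pCore p G) : Cfsg.pPrimeCore p G = ⊥ := by
  rw [eq_bot_iff, ← CfsgLib.PCore.pCore_inf_pPrimeCore (p := p) (G := G)]
  exact le_inf (CfsgLib.PCore.pPrimeCore_le_centralizer_pCore.trans h) le_rfl

/-- Without components and with `O_{p'}(G) = 1`, `O_p(G)` contains its centralizer. -/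
theorem centralizer_pCore_le_of_no_component [hp : Fact p.Prime]
    (hO : Cfsg.pPrimeCore p G = ⊥) (h : ∀ K : Subgroup G, ¬ Cfsg.IsComponent K) :
    centralizer (Cfsg.pCore p G : Set G) ≤ Cfsg.pCore p G := by
  refine centralizer_pCore_le_of_generalizedFitting_eq ?_
  refine le_antisymm (sup_le (sSup_le fun K hK => absurd hK (h K)) ?_)
    ((CfsgLib.Fitting.pCore_le_fitting hp.out).trans fitting_le_generalizedFitting)
  rw [CfsgLib.Fitting.fitting_eq_iSup_pCore]
  refine iSup_le fun q => ?_
  obtain hq | hq := eq_or_ne (q : ℕ) p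
  · rw [hq]
  refine le_trans ?_ bot_le
  rw [← hO]
  refine CfsgLib.PCore.le_pPrimeCore inferInstance ?_
  haveI : Fact (q : ℕ).Prime := ⟨Nat.prime_of_mem_primeFactors q.2⟩
  obtain ⟨n, hn⟩ := IsPGroup.iff_card.mp (CfsgLib.PCore.pCore_isPGroup (p := (q : ℕ)) (G := G))
  rw [hn]
  exact ((Nat.coprime_primes (Nat.prime_of_mem_primeFactors q.2) hp.out).mpr hq).pow_left n

/-! ### Normalizers and centralizers of p-subgroups modulo a p'-group -/

/-- In a quotient by a normal `p'`-subgroup, the normalizer of a `p`-subgroup is the image of the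
normalizer. -/
theorem map_normalizer_quotient [hp : Fact p.Prime] {O : Subgroup G} [O.Normal]
    (hO : (Nat.card O).Coprime p) {P : Subgroup G} (hP : IsPGroup p P) :
    (normalizer (P : Set G)).map (QuotientGroup.mk' O) =
      normalizer ((P.map (QuotientGroup.mk' O) : Subgroup (G ⧸ O)) : Set (G ⧸ O)) := by
  refine le_antisymm (le_normalizer_map _) fun q hq => ?_
  obtain ⟨g, rfl⟩ := QuotientGroup.mk'_surjective O q
  have hY : (P.map (QuotientGroup.mk' O)).comap (QuotientGroup.mk' O) = P ⊔ O := by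
    rw [comap_map_eq, QuotientGroup.ker_mk']
  have hQ : P.map (MulAut.conj g).toMonoidHom ≤ P ⊔ O := by
    rintro _ ⟨u, hu, rfl⟩
    rw [← hY, mem_comap]
    simpa using (mem_normalizer_iff.mp hq (QuotientGroup.mk' O u)).mp (mem_map_of_mem _ hu)
  have hidx : ∀ Q : Subgroup G, Q ≤ P ⊔ O → Nat.card Q = Nat.card P →
      ¬ p ∣ (Q.subgroupOf (P ⊔ O)).index := by
    intro Q hQle hcard hdvd
    have h1 : P.relIndex (P ⊔ O) ∣ Nat.card O := relIndex_dvd_card_of_le_sup le_sup_left le_rfl
    have h2 : Q.relIndex (P ⊔ O) = P.relIndex (P ⊔ O) := by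
      have e1 := relIndex_mul_relIndex ⊥ Q (P ⊔ O) bot_le hQle
      have e2 := relIndex_mul_relIndex ⊥ P (P ⊔ O) bot_le le_sup_left
      rw [relIndex_bot_left, relIndex_bot_left] at e1 e2
      rw [hcard] at e1
      exact Nat.eq_of_mul_eq_mul_left Nat.card_pos (e1.trans e2.symm)
    rw [relIndex] at h2
    rw [h2] at hdvd
    exact hp.out.coprime_iff_not_dvd.mp hO.symm (hdvd.trans h1)
  let S : Sylow p ↥(P ⊔ O) :=
    hP.comap_subtype.toSylow (hidx P le_sup_left rfl)
  let T : Sylow p ↥(P ⊔ O) :=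
    (hP.map (MulAut.conj g).toMonoidHom).comap_subtype.toSylow
      (hidx _ hQ (card_map_of_injective (MulAut.conj g).injective))
  obtain ⟨y, hy⟩ := MulAction.exists_smul_eq ↥(P ⊔ O) S T
  have hyP : P.map (MulAut.conj (y : G)).toMonoidHom = P.map (MulAut.conj g).toMonoidHom := by
    have h := congrArg (fun U : Sylow p ↥(P ⊔ O) => (U : Subgroup ↥(P ⊔ O)).map (P ⊔ O).subtype) hy
    have h2 : ((P.map (MulAut.conj g).toMonoidHom).subgroupOf (P ⊔ O)).map (P ⊔ O).subtype =
        P.map (MulAut.conj g).toMonoidHom := map_subgroupOf_eq_of_le hQ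
    rw [← h2]
    refine Eq.trans ?_ h
    show _ = Subgroup.map (P ⊔ O).subtype
      ((P.subgroupOf (P ⊔ O)).map (MulAut.conj y).toMonoidHom)
    rw [map_map, show (P ⊔ O).subtype.comp (MulAut.conj y).toMonoidHom =
      (MulAut.conj (y : G)).toMonoidHom.comp (P ⊔ O).subtype from rfl, ← map_map,
      map_subgroupOf_eq_of_le le_sup_left]
  have hn : (y : G)⁻¹ * g ∈ normalizer (P : Set G) := by
    rw [mem_normalizer_iff_map_conj_eq]
    have h1 := congrArg (Subgroup.map (MulAut.conj (y : G)⁻¹).toMonoidHom) hyP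
    rw [map_map, map_map] at h1
    have e1 : (MulAut.conj (y : G)⁻¹).toMonoidHom.comp (MulAut.conj g).toMonoidHom =
        (MulAut.conj ((y : G)⁻¹ * g)).toMonoidHom := by
      ext x; simp [mul_assoc]
    have e2 : (MulAut.conj (y : G)⁻¹).toMonoidHom.comp (MulAut.conj (y : G)).toMonoidHom =
        MonoidHom.id G := by
      ext x; simp [mul_assoc]
    rw [e1, e2, Subgroup.map_id] at h1
    exact h1.symm
  obtain ⟨u, hu, o, ho, huo⟩ := mem_sup_of_normal_right.mp (y.2 : (y : G) ∈ P ⊔ O)
  refine ⟨u * ((y : G)⁻¹ * g), mul_mem (le_normalizer hu) hn, ?_⟩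
  simp only [← huo, map_mul, map_inv]
  simp [(QuotientGroup.eq_one_iff o).mpr ho]

/-- In a quotient by a normal `p'`-subgroup, the centralizer of a `p`-subgroup is the image of the
centralizer. -/
theorem map_centralizer_quotient [Fact p.Prime] {O : Subgroup G} [O.Normal]
    (hO : (Nat.card O).Coprime p) {P : Subgroup G} (hP : IsPGroup p P) :
    (centralizer (P : Set G)).map (QuotientGroup.mk' O) =
      centralizer ((P.map (QuotientGroup.mk' O) : Subgroup (G ⧸ O)) : Set (G ⧸ O)) := by
  refine le_antisymm ?_ fun q hq => ?_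
  · rintro _ ⟨c, hc, rfl⟩
    rw [mem_centralizer_iff]
    rintro _ ⟨u, hu, rfl⟩
    rw [← map_mul, ← map_mul, mem_centralizer_iff.mp hc u hu]
  · have := centralizer_le_normalizer _ hq
    rw [← map_normalizer_quotient hO hP] at this
    obtain ⟨g, hg, rfl⟩ := this
    refine ⟨g, mem_centralizer_iff.mpr fun u hu => ?_, rfl⟩
    have h1 : ⁅u, g⁆ ∈ O := by
      rw [← QuotientGroup.ker_mk' O, MonoidHom.mem_ker, map_commutatorElement,
        commutatorElement_eq_one_iff_mul_comm]
      exact mem_centralizer_iff.mp hq _ (mem_map_of_mem _ hu)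
    have h2 : ⁅u, g⁆ ∈ P := by
      rw [commutatorElement_def, mul_assoc, mul_assoc]
      exact mul_mem hu (by
        simpa [mul_assoc] using (mem_normalizer_iff.mp hg u⁻¹).mp (inv_mem hu))
    have h3 : ⁅u, g⁆ ∈ P ⊓ O := ⟨h2, h1⟩
    rw [CfsgLib.PCore.inf_eq_bot_of_isPGroup_coprime hP hO, mem_bot] at h3
    exact commutatorElement_eq_one_iff_mul_comm.mp h3

end CfsgLib.Components
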