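import Cfsg.Agent.Lib.Components.FStar
import Cfsg.Agent.S1304

/-!
# The generalized Fitting subgroup of normal and subnormal subgroups
-/

set_option autoImplicit false

namespace CfsgLib.Components39

open Subgroup CfsgLib.Components
open scoped commutatorElement

variable {G : Type*} [Group G] {G' : Type*} [Group G']

theorem map_generalizedFitting_equiv (e : G ≃* G') :
    (Cfsg.generalizedFittingSubgroup G).map e.toMonoidHom = Cfsg.generalizedFittingSubgroup G' := by
  rw [Cfsg.generalizedFittingSubgroup, Subgroup.map_sup, map_layer_equiv,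
    CfsgLib.Fitting.fitting_map_mulEquiv]
  rfl

theorem generalizedFitting_eq_top_of_equiv (e : G ≃* G')
    (h : Cfsg.generalizedFittingSubgroup G = ⊤) : Cfsg.generalizedFittingSubgroup G' = ⊤ := by
  rw [← map_generalizedFitting_equiv e, h]
  exact Subgroup.map_top_of_surjective _ e.surjective

variable [Finite G]

/-- The join of the components not contained in a normal subgroup. -/
def outsideLayer (B : Subgroup G) : Subgroup G :=
  sSup {K : Subgroup G | Cfsg.IsComponent K ∧ ¬ K ≤ B}

theorem commutator_outsideLayer {B : Subgroup G} (hB : B.IsSubnormal) :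
    ⁅outsideLayer B, B⁆ = ⊥ :=
  commutator_sSup_eq_bot fun _ hK => (le_or_commutator_eq_bot hK.1 hB).resolve_left hK.2

theorem outsideLayer_normal (B : Subgroup G) [hB : B.Normal] : (outsideLayer B).Normal := by
  rw [← normalizer_eq_top_iff, eq_top_iff]
  refine CfsgLib.Structure.le_normalizer_sSup ?_
  intro g _ K hK
  refine ⟨isComponent_conj g hK.1, fun h => hK.2 fun x hx => ?_⟩
  have h1 := hB.conj_mem _ (h (mem_map_of_mem (MulAut.conj g).toMonoidHom hx)) g⁻¹
  simpa [MulAut.conj_apply, mul_assoc] using h1

/-- An abelian normal subgroup lies in the Fitting subgroup. -/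
theorem abelian_normal_le_fitting {N : Subgroup G} (hN : N.Normal) (hc : N ≤ centralizer (N : Set G)) :
    N ≤ Cfsg.fittingSubgroup G := by
  haveI : IsMulCommutative N := le_centralizer_iff_isMulCommutative.mp hc
  haveI : Group.IsNilpotent N := by
    open scoped IsMulCommutative in infer_instance
  exact CfsgLib.Fitting.le_fitting hN inferInstance

/-- `F*(G) ∩ B = F*(B)` for a normal subgroup `B`. -/
theorem generalizedFitting_inf_normal (B : Subgroup G) [hB : B.Normal] :
    Cfsg.generalizedFittingSubgroup G ⊓ B = (Cfsg.generalizedFittingSubgroup B).map B.subtype := by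
  have hFn := CfsgLib.Fitting.fitting_normal (G := G)
  refine le_antisymm ?_ ?_
  · haveI := outsideLayer_normal B
    set E1 := (Cfsg.layer B).map B.subtype with hE1
    set R := outsideLayer B ⊔ Cfsg.fittingSubgroup G with hR
    haveI hRn : R.Normal := Subgroup.sup_normal _ _
    have hW : Cfsg.generalizedFittingSubgroup G ≤ E1 ⊔ R := by
      refine sup_le (sSup_le fun K hK => ?_) (le_sup_right.trans le_sup_right)
      by_cases h : K ≤ B
      · refine le_sup_of_le_left ?_
        rw [hE1, ← map_subgroupOf_eq_of_le h]
        exact map_mono (component_le_layer (isComponent_subgroupOf hK h))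
      · exact le_sup_of_le_right (le_sup_of_le_left (le_sSup ⟨hK, h⟩))
    rintro g ⟨hg, hgB⟩
    obtain ⟨e, he, r, hr, rfl⟩ := mem_sup_of_normal_right.mp (hW hg)
    have heB : e ∈ B := map_subtype_le _ he
    have hrB : r ∈ B := by
      have h := mul_mem (inv_mem heB) hgB
      simpa using h
    have hcB : outsideLayer B ≤ centralizer (B : Set G) :=
      le_centralizer_of_commutator_eq_bot (commutator_outsideLayer hB.isSubnormal)
    have hrc : r ∈ centralizer (outsideLayer B : Set G) := le_centralizer_iff.mp hcB hrB
    obtain ⟨o, ho, f, hf, rfl⟩ := mem_sup_of_normal_right.mp (hR ▸ hr)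
    have hfc : f ∈ centralizer (outsideLayer B : Set G) := by
      refine (le_centralizer_iff.mp ?_) hf
      exact (sSup_le fun K hK => component_le_layer hK.1).trans layer_le_centralizer_fitting
    have hoc : o ∈ centralizer (outsideLayer B : Set G) := by
      have h := mul_mem hrc (inv_mem hfc)
      simpa using h
    have hoF : o ∈ Cfsg.fittingSubgroup G := by
      refine abelian_normal_le_fitting (N := outsideLayer B ⊓ centralizer (outsideLayer B : Set G))
        inferInstance ?_ ⟨ho, hoc⟩
      exact inf_le_right.trans (centralizer_le (SetLike.coe_subset_coe.mpr inf_le_left))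
    rw [Cfsg.generalizedFittingSubgroup, Subgroup.map_sup]
    refine mul_mem (mem_sup_left he) (mem_sup_right ?_)
    rw [CfsgLib.Fitting.map_fitting_of_normal hB]
    exact ⟨mul_mem hoF hf, hrB⟩
  · refine le_inf ?_ (map_subtype_le _)
    rw [Cfsg.generalizedFittingSubgroup, Subgroup.map_sup]
    refine sup_le (le_sup_of_le_left ?_)
      (le_sup_of_le_right (CfsgLib.Fitting.map_fitting_of_subnormal_le hB.isSubnormal))
    rw [map_le_iff_le_comap]
    exact sSup_le fun K hK =>
      map_le_iff_le_comap.mp (component_le_layer (isComponent_map_subtype hB.isSubnormal hK))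

/-- A normal subgroup of a group which is its own generalized Fitting subgroup has the same property. -/
theorem generalizedFitting_eq_top_of_normal (h : Cfsg.generalizedFittingSubgroup G = ⊤)
    (B : Subgroup G) [B.Normal] : Cfsg.generalizedFittingSubgroup B = ⊤ := by
  have h1 := generalizedFitting_inf_normal B
  rw [h, top_inf_eq] at h1
  apply map_injective (subtype_injective B)
  rw [← h1, ← MonoidHom.range_eq_map, range_subtype]

theorem generalizedFitting_self :
    Cfsg.generalizedFittingSubgroup (Cfsg.generalizedFittingSubgroup G) = ⊤ := by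
  haveI := generalizedFitting_normal (G := G)
  have h1 := generalizedFitting_inf_normal (Cfsg.generalizedFittingSubgroup G)
  rw [inf_idem] at h1
  apply map_injective (subtype_injective (Cfsg.generalizedFittingSubgroup G))
  rw [← h1, ← MonoidHom.range_eq_map, range_subtype]

theorem generalizedFitting_eq_top_of_isSubnormal (h : Cfsg.generalizedFittingSubgroup G = ⊤)
    {S : Subgroup G} (hS : S.IsSubnormal) : Cfsg.generalizedFittingSubgroup S = ⊤ := by
  induction hS with
  | top => exact generalizedFitting_eq_top_of_equiv Subgroup.topEquiv.symm h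
  | step A B hle _ hN ih =>
    haveI := hN
    exact generalizedFitting_eq_top_of_equiv (subgroupOfEquivOfLe hle)
      (generalizedFitting_eq_top_of_normal ih (A.subgroupOf B))

/-- `F(S) = F(G) ∩ S` for a subnormal subgroup `S`. -/
theorem map_fitting_of_isSubnormal {S : Subgroup G} (hS : S.IsSubnormal) :
    (Cfsg.fittingSubgroup S).map S.subtype = Cfsg.fittingSubgroup G ⊓ S := by
  refine le_antisymm (le_inf (CfsgLib.Fitting.map_fitting_of_subnormal_le hS) (map_subtype_le _)) ?_
  intro x hx
  refine ⟨⟨x, hx.2⟩, ?_, rfl⟩
  have h1 : ((Cfsg.fittingSubgroup G).subgroupOf S).Normal :=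
    (CfsgLib.Fitting.fitting_normal (G := G)).subgroupOf _
  have h3 : Group.IsNilpotent (Cfsg.fittingSubgroup G ⊓ S : Subgroup G) :=
    CfsgLib.Fitting.isNilpotent_of_le CfsgLib.Fitting.fitting_isNilpotent inf_le_left
  have h4 := Group.nilpotent_of_mulEquiv (_h := h3)
    (subgroupOfEquivOfLe (inf_le_right : Cfsg.fittingSubgroup G ⊓ S ≤ S)).symm
  rw [inf_subgroupOf_right] at h4
  exact CfsgLib.Fitting.le_fitting h1 h4 hx.1

/-- For a subgroup `U`, a component either lies in `[E(G), U]` or is centralized by `U`. -/
theorem component_le_commutator_or_centralized {U K : Subgroup G} (hK : Cfsg.IsComponent K) :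
    K ≤ ⁅Cfsg.layer G, U⁆ ∨ K ≤ centralizer (U : Set G) := by
  have hnorm : Cfsg.layer G ≤ normalizer ((⁅Cfsg.layer G, U⁆ : Subgroup G) : Set G) := by
    refine le_normalizer_iff.mpr fun e he => ?_
    suffices h : ⁅Cfsg.layer G, U⁆ ≤ (⁅Cfsg.layer G, U⁆).comap (MulAut.conj e).toMonoidHom from
      fun k hk => by simpa [MulAut.conj_apply] using h hk
    rw [commutator_le]
    intro a ha u hu
    rw [mem_comap]
    have heq : (MulAut.conj e).toMonoidHom ⁅a, u⁆ = ⁅e * a, u⁆ * (⁅e, u⁆)⁻¹ := by
      simp [commutatorElement_def, MulAut.conj_apply, mul_assoc]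
    rw [heq]
    exact mul_mem (commutator_mem_commutator (mul_mem he ha) hu)
      (inv_mem (commutator_mem_commutator he hu))
  have hle : ⁅Cfsg.layer G, U⁆ ≤ Cfsg.layer G := commutator_le_left _ _
  have hsn : (⁅Cfsg.layer G, U⁆).IsSubnormal :=
    IsSubnormal.step _ _ hle (inferInstance : (Cfsg.layer G).Normal).isSubnormal
      ((normal_subgroupOf_iff_le_normalizer hle).mpr hnorm)
  obtain h | h := le_or_commutator_eq_bot hK hsn
  · exact Or.inl h
  · refine Or.inr (le_centralizer_of_commutator_eq_bot
      (commutator_eq_bot_of_perfect (component_commutator_self hK) (le_bot_iff.mp ?_)))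
    refine le_trans (commutator_mono (commutator_mono (component_le_layer hK) le_rfl) le_rfl) ?_
    rw [commutator_comm, h]

end CfsgLib.Components39
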