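import Cfsg.Agent.Lib.Components.Basic
import Cfsg.Agent.Lib.PCore.Basic
import Cfsg.Agent.Lib.Solvable.Fitting
import Cfsg.Agent.Lib.Structure.Subnormal

/-!
# The generalized Fitting subgroup

The generalized Fitting subgroup of a finite group contains its own centralizer, and it equals
`O_p(G)` exactly when `O_p(G)` contains its own centralizer.
-/

set_option autoImplicit false

namespace CfsgLib.Components

open Subgroup
open scoped IsMulCommutative

variable {G : Type*} [Group G] [Finite G]

/-- The join of the solvable normal subgroups of a finite group is solvable. -/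
theorem isSolvable_sSup_normal_solvable :
    Group.IsSolvable (sSup {N : Subgroup G | N.Normal ∧ Group.IsSolvable N} : Subgroup G) := by
  refine CfsgLib.PCore.sSup_induction_normal (fun N : Subgroup G => Group.IsSolvable N) inferInstance ?_
  intro A B hA _ hAs hBs
  haveI := hA
  haveI := hAs
  haveI := hBs
  exact CfsgLib.Structure.isSolvable_sup_of_le_normalizer le_normalizer_of_normal

/-- A solvable subnormal subgroup lies in a solvable normal subgroup. -/
theorem le_sSup_normal_solvable_of_isSubnormal {A : Subgroup G} (hA : A.IsSubnormal)
    (hs : Group.IsSolvable A) : A ≤ sSup {N : Subgroup G | N.Normal ∧ Group.IsSolvable N} :=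
  CfsgLib.Structure.le_sSup_normal_of_isSubnormal (fun N => Group.IsSolvable N) inferInstance
    (fun g N hN => haveI := hN
      Group.isSolvable_of_surjective ((MulAut.conj g).toMonoidHom.subgroupMap_surjective N))
    (fun N M hN hM _ h => haveI := hN; haveI := hM
      CfsgLib.Structure.isSolvable_sup_of_le_normalizer h)
    hA hs

theorem fitting_isSolvable : Group.IsSolvable (Cfsg.fittingSubgroup G) :=
  haveI := CfsgLib.Fitting.fitting_isNilpotent (G := G)
  inferInstance

theorem layer_le_centralizer_fitting :
    Cfsg.layer G ≤ centralizer (Cfsg.fittingSubgroup G : Set G) :=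
  haveI := CfsgLib.Fitting.fitting_normal (G := G)
  haveI := fitting_isSolvable (G := G)
  le_centralizer_of_commutator_eq_bot (commutator_layer_solvable _)

/-- A solvable subnormal subgroup centralizing the Fitting subgroup lies in it. -/
theorem solvable_subnormal_le_fitting {N : Subgroup G} (hN : N.IsSubnormal)
    (hs : Group.IsSolvable N) (hc : N ≤ centralizer (Cfsg.fittingSubgroup G : Set G)) :
    N ≤ Cfsg.fittingSubgroup G := by
  haveI := CfsgLib.Fitting.fitting_normal (G := G)
  haveI hR : (sSup {N : Subgroup G | N.Normal ∧ Group.IsSolvable N} : Subgroup G).Normal :=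
    sSup_normal _ fun _ h => h.1
  haveI := isSolvable_sSup_normal_solvable (G := G)
  refine le_trans (le_inf (le_sSup_normal_solvable_of_isSubnormal hN hs) hc) ?_
  exact CfsgLib.Fitting.solvable_normal_centralizing_le_fitting inferInstance
    (Group.isSolvable_of_isSolvable_injective (inclusion_injective inf_le_left)) inf_le_right

theorem generalizedFitting_normal : (Cfsg.generalizedFittingSubgroup G).Normal :=
  haveI := CfsgLib.Fitting.fitting_normal (G := G)
  Subgroup.sup_normal (Cfsg.layer G) (Cfsg.fittingSubgroup G)

theorem layer_le_generalizedFitting : Cfsg.layer G ≤ Cfsg.generalizedFittingSubgroup G :=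
  le_sup_left

theorem fitting_le_generalizedFitting :
    Cfsg.fittingSubgroup G ≤ Cfsg.generalizedFittingSubgroup G :=
  le_sup_right

/-- The centralizer of the generalized Fitting subgroup is contained in it. -/
theorem centralizer_generalizedFitting_le :
    centralizer (Cfsg.generalizedFittingSubgroup G : Set G) ≤ Cfsg.generalizedFittingSubgroup G := by
  haveI := generalizedFitting_normal (G := G)
  set F := Cfsg.generalizedFittingSubgroup G with hF
  by_contra hCF
  have hsub : (centralizer (F : Set G)).IsSubnormal :=
    (inferInstance : (centralizer (F : Set G)).Normal).isSubnormal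
  obtain ⟨K, hK⟩ := ({K : Subgroup G | K.IsSubnormal ∧ K ≤ centralizer (F : Set G) ∧ ¬ K ≤ F}
    ).toFinite.exists_minimal ⟨_, hsub, le_rfl, hCF⟩
  obtain ⟨hKs, hKC, hKF⟩ := hK.prop
  -- proper normal subgroups of `K` are central
  have hcent : ∀ N : Subgroup K, N.Normal → N ≠ ⊤ → N ≤ center K := by
    intro N hN hne n hn
    have hle : N.map K.subtype ≤ F := by
      by_contra hnle
      have hmem : N.map K.subtype ∈
          {K : Subgroup G | K.IsSubnormal ∧ K ≤ centralizer (F : Set G) ∧ ¬ K ≤ F} :=
        ⟨hN.isSubnormal.trans' hKs, (map_subtype_le N).trans hKC, hnle⟩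
      refine hne (map_injective (subtype_injective K) ?_)
      rw [← MonoidHom.range_eq_map, range_subtype]
      exact hK.eq_of_le hmem (map_subtype_le N)
    rw [mem_center_iff]
    intro k
    exact Subtype.ext ((mem_centralizer_iff.mp (hKC k.2) n (hle ⟨n, hn, rfl⟩)).symm)
  have hns : ¬ Group.IsSolvable K := fun hs =>
    hKF ((solvable_subnormal_le_fitting hKs hs
      (hKC.trans (centralizer_le (SetLike.coe_subset_coe.mpr fitting_le_generalizedFitting)))).trans
        fitting_le_generalizedFitting)
  have hperf : _root_.commutator K = ⊤ := by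
    by_contra hne
    have h := hcent _ inferInstance hne
    apply hns
    refine ⟨⟨2, ?_⟩⟩
    rw [derivedSeries_succ, derivedSeries_one, eq_bot_iff]
    exact (commutator_mono h le_top).trans_eq (commutator_top_right_eq_bot_iff_le_center.mpr le_rfl)
  haveI : Nontrivial K := by
    rw [nontrivial_iff_ne_bot]
    exact fun h => hKF (h ▸ bot_le)
  exact hKF ((component_le_layer ⟨hKs, isQuasisimple_of_normal hperf hcent⟩).trans
    layer_le_generalizedFitting)

/-- Whatever centralizes the generalized Fitting subgroup lies in the Fitting subgroup. -/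
theorem centralizer_generalizedFitting_le_fitting :
    centralizer (Cfsg.generalizedFittingSubgroup G : Set G) ≤ Cfsg.fittingSubgroup G := by
  haveI := generalizedFitting_normal (G := G)
  have hcomm : IsMulCommutative (centralizer (Cfsg.generalizedFittingSubgroup G : Set G)) :=
    le_centralizer_iff_isMulCommutative.mp
      (centralizer_le (SetLike.coe_subset_coe.mpr centralizer_generalizedFitting_le))
  haveI : Group.IsNilpotent (centralizer (Cfsg.generalizedFittingSubgroup G : Set G)) := by
    haveI := hcomm
    infer_instance
  exact CfsgLib.Fitting.le_fitting inferInstance inferInstance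

/-- If `C(O_p(G)) ≤ O_p(G)` then `F*(G) = O_p(G)`. -/
theorem generalizedFitting_eq_pCore_of_centralizer_le (p : ℕ) [hp : Fact p.Prime]
    (h : centralizer (Cfsg.pCore p G : Set G) ≤ Cfsg.pCore p G) :
    Cfsg.generalizedFittingSubgroup G = Cfsg.pCore p G := by
  refine le_antisymm (sup_le (sSup_le fun L hL => ?_) ?_)
    ((CfsgLib.Fitting.pCore_le_fitting hp.out).trans fitting_le_generalizedFitting)
  · have hRs : Group.IsSolvable (Cfsg.pCore p G) :=
      haveI := (CfsgLib.PCore.pCore_isPGroup (p := p) (G := G)).isNilpotent
      inferInstance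
    exact (le_centralizer_of_commutator_eq_bot
      (component_commutator_solvable hL hRs le_normalizer_of_normal)).trans h
  · rw [CfsgLib.Fitting.fitting_eq_iSup_pCore]
    refine iSup_le fun q => ?_
    obtain hq | hq := eq_or_ne (q : ℕ) p
    · rw [hq]
    refine le_trans ?_ h
    intro y hy
    rw [mem_centralizer_iff]
    intro x hx
    exact CfsgLib.Fitting.commute_pCore_of_ne hp.out (Nat.prime_of_mem_primeFactors q.2)
      (Ne.symm hq) hx hy

theorem centralizer_pCore_le_of_generalizedFitting_eq {p : ℕ}
    (h : Cfsg.generalizedFittingSubgroup G = Cfsg.pCore p G) :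
    centralizer (Cfsg.pCore p G : Set G) ≤ Cfsg.pCore p G := by
  rw [← h]
  exact centralizer_generalizedFitting_le

end CfsgLib.Components
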