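import Cfsg.Prelude.Def_Local
import Mathlib.GroupTheory.Solvable
import Mathlib.GroupTheory.QuotientGroup.Basic

/-!
# Quasisimple groups, components and the layer

Elementary theory of components of a finite group (Wielandt): a component either lies in a given
subnormal subgroup or commutes with it elementwise, distinct components commute, the layer is a
characteristic subgroup and commutes with every solvable subgroup that it normalizes.
-/

set_option autoImplicit false

namespace CfsgLib.Components

open Subgroup
open scoped commutatorElement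

variable {G : Type*} [Group G] {G' : Type*} [Group G']

/-! ### Commutators -/

/-- Three subgroup lemma for a perfect subgroup. -/
theorem commutator_eq_bot_of_perfect {L N : Subgroup G} (hL : ⁅L, L⁆ = L)
    (h : ⁅⁅L, N⁆, L⁆ = ⊥) : ⁅L, N⁆ = ⊥ := by
  have h' : ⁅⁅N, L⁆, L⁆ = ⊥ := by rwa [commutator_comm N L]
  have := commutator_commutator_eq_bot_of_rotate (H₁ := L) (H₂ := L) (H₃ := N) h h'
  rwa [hL] at this

theorem le_centralizer_of_commutator_eq_bot {H K : Subgroup G} (h : ⁅H, K⁆ = ⊥) :
    H ≤ centralizer (K : Set G) :=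
  commutator_eq_bot_iff_le_centralizer.mp h

theorem commute_of_commutator_eq_bot {H K : Subgroup G} (h : ⁅H, K⁆ = ⊥) {x y : G} (hx : x ∈ H)
    (hy : y ∈ K) : x * y = y * x :=
  (mem_centralizer_iff.mp (le_centralizer_of_commutator_eq_bot h hx) y hy).symm

theorem commutator_sSup_eq_bot {N : Subgroup G} {S : Set (Subgroup G)}
    (h : ∀ L ∈ S, ⁅L, N⁆ = ⊥) : ⁅sSup S, N⁆ = ⊥ :=
  commutator_eq_bot_iff_le_centralizer.mpr
    (sSup_le fun L hL => le_centralizer_of_commutator_eq_bot (h L hL))

theorem commutator_iSup_eq_bot {ι : Sort*} {N : Subgroup G} {L : ι → Subgroup G}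
    (h : ∀ i, ⁅L i, N⁆ = ⊥) : ⁅⨆ i, L i, N⁆ = ⊥ :=
  commutator_eq_bot_iff_le_centralizer.mpr
    (iSup_le fun i => le_centralizer_of_commutator_eq_bot (h i))

theorem commutator_sup_eq_bot {H K N : Subgroup G} (h₁ : ⁅H, N⁆ = ⊥) (h₂ : ⁅K, N⁆ = ⊥) :
    ⁅H ⊔ K, N⁆ = ⊥ :=
  commutator_eq_bot_iff_le_centralizer.mpr
    (sup_le (le_centralizer_of_commutator_eq_bot h₁) (le_centralizer_of_commutator_eq_bot h₂))

theorem map_center_subtype (H : Subgroup G) :
    (center H).map H.subtype = H ⊓ centralizer (H : Set G) := by
  ext x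
  simp only [mem_map, mem_center_iff, mem_inf, mem_centralizer_iff, SetLike.mem_coe]
  constructor
  · rintro ⟨z, hz, rfl⟩
    exact ⟨z.2, fun y hy => congrArg Subtype.val (hz ⟨y, hy⟩)⟩
  · rintro ⟨hx, hc⟩
    exact ⟨⟨x, hx⟩, fun y => Subtype.ext (hc y y.2), rfl⟩

/-! ### Quasisimple groups -/

section Quasisimple

variable {H : Type*} [Group H] {H' : Type*} [Group H']

theorem quasisimple_commutator_eq_top (h : Cfsg.IsQuasisimple H) : _root_.commutator H = ⊤ :=
  h.1.commutator_eq_top

theorem quasisimple_nontrivial (h : Cfsg.IsQuasisimple H) : Nontrivial H :=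
  haveI := h.2
  (QuotientGroup.mk'_surjective (center H)).nontrivial

theorem quasisimple_not_isSolvable (h : Cfsg.IsQuasisimple H) : ¬ Group.IsSolvable H :=
  haveI := h.1
  haveI := quasisimple_nontrivial h
  Group.IsPerfect.not_isSolvable H

theorem quasisimple_not_isMulCommutative (h : Cfsg.IsQuasisimple H) : ¬ IsMulCommutative H :=
  haveI := h.1
  haveI := quasisimple_nontrivial h
  Group.IsPerfect.not_isMulCommutative H

/-- A normal subgroup of a quasisimple group is the whole group or is central. -/
theorem quasisimple_normal_eq_top_or_le_center (h : Cfsg.IsQuasisimple H) (N : Subgroup H)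
    [hN : N.Normal] : N = ⊤ ∨ N ≤ center H := by
  haveI := h.2
  obtain h0 | h1 := (hN.map (QuotientGroup.mk' (center H))
    (QuotientGroup.mk'_surjective _)).eq_bot_or_eq_top
  · right
    rwa [Subgroup.map_eq_bot_iff, QuotientGroup.ker_mk'] at h0
  · left
    have hsup : N ⊔ center H = ⊤ := by
      have := congrArg (comap (QuotientGroup.mk' (center H))) h1
      rwa [comap_map_eq, QuotientGroup.ker_mk', comap_top] at this
    rw [eq_top_iff, ← quasisimple_commutator_eq_top h, _root_.commutator_def, commutator_le]
    intro a _ b _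
    have ha : a ∈ N ⊔ center H := hsup ▸ mem_top a
    have hb : b ∈ N ⊔ center H := hsup ▸ mem_top b
    obtain ⟨n, hn, z, hz, rfl⟩ := mem_sup_of_normal_left.mp ha
    obtain ⟨m, hm, w, hw, rfl⟩ := mem_sup_of_normal_left.mp hb
    rw [mem_center_iff] at hz hw
    have : ⁅n * z, m * w⁆ = ⁅n, m⁆ := by
      have e1 : ⁅n * z, m * w⁆ = ⁅n, m * w⁆ := by
        rw [commutatorElement_def, commutatorElement_def, mul_assoc n z, ← hz (m * w), mul_inv_rev]
        group
      rw [e1, commutatorElement_def, commutatorElement_def, ← mul_assoc n m, mul_inv_rev]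
      have := hw (n⁻¹)
      calc n * m * w * n⁻¹ * (w⁻¹ * m⁻¹) = n * m * (w * n⁻¹) * w⁻¹ * m⁻¹ := by group
        _ = n * m * (n⁻¹ * w) * w⁻¹ * m⁻¹ := by rw [← this]
        _ = n * m * n⁻¹ * m⁻¹ := by group
    rw [this, commutatorElement_def]
    exact mul_mem (mul_mem (mul_mem hn hm) (inv_mem hn)) (inv_mem hm)

/-- Criterion: a nontrivial perfect group all of whose proper normal subgroups are central is
quasisimple. -/
theorem isQuasisimple_of_normal [Nontrivial H] (hp : _root_.commutator H = ⊤)
    (h : ∀ N : Subgroup H, N.Normal → N ≠ ⊤ → N ≤ center H) : Cfsg.IsQuasisimple H := by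
  haveI hperf : Group.IsPerfect H := ⟨hp⟩
  have hne : center H ≠ ⊤ := fun hc =>
    Group.IsPerfect.not_isMulCommutative H (center_eq_top_iff.mp hc)
  refine ⟨hperf, ?_⟩
  haveI : Nontrivial (H ⧸ center H) := QuotientGroup.nontrivial_iff.mpr hne
  refine ⟨fun M hM => ?_⟩
  by_cases htop : M.comap (QuotientGroup.mk' (center H)) = ⊤
  · right
    rw [← map_comap_eq_self_of_surjective (QuotientGroup.mk'_surjective (center H)) M, htop,
      map_top_of_surjective _ (QuotientGroup.mk'_surjective _)]
  · left
    have := h _ (hM.comap _) htop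
    rw [← map_comap_eq_self_of_surjective (QuotientGroup.mk'_surjective (center H)) M, Subgroup.map_eq_bot_iff,
      QuotientGroup.ker_mk']
    exact this

theorem map_center_le_center_of_surjective (f : H →* H') (hf : Function.Surjective f) :
    (center H).map f ≤ center H' := by
  rintro _ ⟨z, hz, rfl⟩
  rw [mem_center_iff]
  intro g
  obtain ⟨x, rfl⟩ := hf g
  rw [← map_mul, ← map_mul, mem_center_iff.mp hz x]

/-- A nontrivial image of a quasisimple group is quasisimple. -/
theorem isQuasisimple_of_surjective (h : Cfsg.IsQuasisimple H) [Nontrivial H'] (f : H →* H')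
    (hf : Function.Surjective f) : Cfsg.IsQuasisimple H' := by
  haveI := h.1
  haveI := Group.IsPerfect.ofSurjective hf
  refine isQuasisimple_of_normal Group.IsPerfect.commutator_eq_top fun N hN hne => ?_
  haveI := hN.comap f
  obtain h' | h' := quasisimple_normal_eq_top_or_le_center h (N.comap f)
  · exact absurd (by rw [← map_comap_eq_self_of_surjective hf N, h', map_top_of_surjective f hf]) hne
  · rw [← map_comap_eq_self_of_surjective hf N]
    exact (map_mono h').trans (map_center_le_center_of_surjective f hf)

theorem isQuasisimple_of_mulEquiv (h : Cfsg.IsQuasisimple H) (e : H ≃* H') :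
    Cfsg.IsQuasisimple H' :=
  haveI := quasisimple_nontrivial h
  haveI : Nontrivial H' := e.symm.toEquiv.nontrivial
  isQuasisimple_of_surjective h e.toMonoidHom e.surjective

theorem isQuasisimple_congr (e : H ≃* H') : Cfsg.IsQuasisimple H ↔ Cfsg.IsQuasisimple H' :=
  ⟨fun h => isQuasisimple_of_mulEquiv h e, fun h => isQuasisimple_of_mulEquiv h e.symm⟩

/-- The centre of a quasisimple group is a proper subgroup. -/
theorem quasisimple_center_ne_top (h : Cfsg.IsQuasisimple H) : center H ≠ ⊤ := fun hc =>
  quasisimple_not_isMulCommutative h (center_eq_top_iff.mp hc)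

end Quasisimple

/-! ### Components -/

theorem component_commutator_self {L : Subgroup G} (hL : Cfsg.IsComponent L) : ⁅L, L⁆ = L :=
  Subgroup.isPerfect_iff.mp hL.2.1

theorem component_ne_bot {L : Subgroup G} (hL : Cfsg.IsComponent L) : L ≠ ⊥ := by
  haveI := quasisimple_nontrivial hL.2
  exact L.nontrivial_iff_ne_bot.mp inferInstance

theorem component_not_isSolvable {L : Subgroup G} (hL : Cfsg.IsComponent L) :
    ¬ Group.IsSolvable L :=
  quasisimple_not_isSolvable hL.2

theorem component_commutator_ne_bot {L : Subgroup G} (hL : Cfsg.IsComponent L) : ⁅L, L⁆ ≠ ⊥ := by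
  rw [component_commutator_self hL]
  exact component_ne_bot hL

theorem isComponent_map_of_injective {f : G →* G'} (hf : Function.Injective f) {K : Subgroup G}
    (hK : Cfsg.IsComponent K) (hsub : (K.map f).IsSubnormal) : Cfsg.IsComponent (K.map f) :=
  ⟨hsub, isQuasisimple_of_mulEquiv hK.2 (K.equivMapOfInjective f hf)⟩

theorem isComponent_map_equiv (e : G ≃* G') {K : Subgroup G} (hK : Cfsg.IsComponent K) :
    Cfsg.IsComponent (K.map e.toMonoidHom) :=
  isComponent_map_of_injective (f := e.toMonoidHom) e.injective hK (hK.1.map e.surjective)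

theorem isComponent_conj (g : G) {K : Subgroup G} (hK : Cfsg.IsComponent K) :
    Cfsg.IsComponent (K.map (MulAut.conj g).toMonoidHom) :=
  isComponent_map_equiv _ hK

theorem isComponent_subgroupOf {H K : Subgroup G} (hK : Cfsg.IsComponent K) (hle : K ≤ H) :
    Cfsg.IsComponent (K.subgroupOf H) :=
  ⟨hK.1.subgroupOf, isQuasisimple_of_mulEquiv hK.2 (subgroupOfEquivOfLe hle).symm⟩

theorem isComponent_map_subtype {H : Subgroup G} (hH : H.IsSubnormal) {K : Subgroup H}
    (hK : Cfsg.IsComponent K) : Cfsg.IsComponent (K.map H.subtype) :=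
  isComponent_map_of_injective (subtype_injective H) hK (hK.1.trans' hH)

theorem isComponent_map_subtype_iff {H : Subgroup G} (hH : H.IsSubnormal) {K : Subgroup H} :
    Cfsg.IsComponent (K.map H.subtype) ↔ Cfsg.IsComponent K :=
  ⟨fun h => by
    have := isComponent_subgroupOf h (map_subtype_le K)
    rwa [subgroupOf, comap_map_eq_self_of_injective (subtype_injective H)] at this,
   isComponent_map_subtype hH⟩

theorem isComponent_subgroupOf_iff {H K : Subgroup G} (hH : H.IsSubnormal) (hle : K ≤ H) :
    Cfsg.IsComponent (K.subgroupOf H) ↔ Cfsg.IsComponent K := by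
  rw [← isComponent_map_subtype_iff hH, map_subgroupOf_eq_of_le hle]

theorem commutator_subgroupOf_eq_bot_iff {H K₁ K₂ : Subgroup G} (h₁ : K₁ ≤ H) (h₂ : K₂ ≤ H) :
    ⁅K₁.subgroupOf H, K₂.subgroupOf H⁆ = ⊥ ↔ ⁅K₁, K₂⁆ = ⊥ := by
  rw [← (map_injective (subtype_injective H)).eq_iff, map_commutator,
    map_subgroupOf_eq_of_le h₁, map_subgroupOf_eq_of_le h₂, Subgroup.map_bot]

theorem le_of_subgroupOf_le {H K₁ K₂ : Subgroup G} (h₁ : K₁ ≤ H)
    (h : K₁.subgroupOf H ≤ K₂.subgroupOf H) : K₁ ≤ K₂ := fun _ hx =>
  h (x := ⟨_, h₁ hx⟩) hx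

/-- A subgroup of a component `L`, normalized by `L`, is `L` or commutes with `L`. -/
theorem component_eq_or_commutator_of_normalized {L N : Subgroup G} (hL : Cfsg.IsComponent L)
    (hle : N ≤ L) (hnorm : L ≤ normalizer (N : Set G)) : N = L ∨ ⁅L, N⁆ = ⊥ := by
  haveI : (N.subgroupOf L).Normal := (normal_subgroupOf_iff_le_normalizer hle).mpr hnorm
  obtain h | h := quasisimple_normal_eq_top_or_le_center hL.2 (N.subgroupOf L)
  · exact Or.inl (le_antisymm hle (subgroupOf_eq_top.mp h))
  · right
    rw [← commutator_subgroupOf_eq_bot_iff le_rfl hle, subgroupOf_self,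
      commutator_top_left_eq_bot_iff_le_center]
    exact h

section Finite

variable [Finite G]

theorem card_lt_card_of_ne_top {H : Subgroup G} (h : H ≠ ⊤) : Nat.card H < Nat.card G :=
  lt_of_le_of_ne (card_le_card_group H) fun e => h ((card_eq_iff_eq_top H).mp e)

/-- Induction behind `le_or_commutator_eq_bot`. -/
theorem le_or_commutator_aux.{u} : ∀ (n : ℕ) {G : Type u} [Group G] [Finite G], Nat.card G ≤ n →
    ∀ {L H : Subgroup G}, Cfsg.IsComponent L → H.IsSubnormal → L ≤ H ∨ ⁅L, H⁆ = ⊥ := by
  intro n
  induction n with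
  | zero =>
    intro G _ _ h
    have := Nat.card_pos (α := G)
    omega
  | succ n ih =>
    intro G _ _ hn L H hL hH
    obtain rfl | ⟨N, hNn, hHN, hNt⟩ := hH.lt_normal
    · exact Or.inl le_top
    have hN : Nat.card N ≤ n := Nat.le_of_lt_succ ((card_lt_card_of_ne_top hNt.ne).trans_le hn)
    have hLnot : L ≤ N → L ≤ H ∨ ⁅L, H⁆ = ⊥ := by
      intro hLN
      obtain h | h := ih hN (isComponent_subgroupOf hL hLN) (hH.subgroupOf (K := N))
      · exact Or.inl (le_of_subgroupOf_le hLN h)
      · exact Or.inr ((commutator_subgroupOf_eq_bot_iff hLN hHN).mp h)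
    by_cases hLN : L ≤ N
    · exact hLnot hLN
    right
    suffices h : ⁅L, N⁆ = ⊥ from le_bot_iff.mp ((commutator_mono le_rfl hHN).trans h.le)
    obtain hLtop | ⟨M, hMn, hLM, hMt⟩ := hL.1.lt_normal
    · subst hLtop
      refine (component_eq_or_commutator_of_normalized hL le_top le_normalizer_of_normal).resolve_left
        hNt.ne
    have hM : Nat.card M ≤ n := Nat.le_of_lt_succ ((card_lt_card_of_ne_top hMt.ne).trans_le hn)
    haveI := hNn
    haveI := hMn
    obtain h | h := ih hM (isComponent_subgroupOf hL hLM)
      ((normal_inf_normal M N).isSubnormal.subgroupOf (K := M))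
    · exact absurd ((le_of_subgroupOf_le hLM h).trans inf_le_right) hLN
    · have h' : ⁅L, M ⊓ N⁆ = ⊥ := (commutator_subgroupOf_eq_bot_iff hLM inf_le_left).mp h
      refine commutator_eq_bot_of_perfect (component_commutator_self hL) (le_bot_iff.mp ?_)
      calc ⁅⁅L, N⁆, L⁆ ≤ ⁅M ⊓ N, L⁆ :=
            commutator_mono ((commutator_mono hLM le_rfl).trans (commutator_le_inf M N)) le_rfl
        _ = ⊥ := by rw [commutator_comm]; exact h'

/-- **Wielandt**: a component lies in a subnormal subgroup or commutes with it. -/
theorem le_or_commutator_eq_bot {L H : Subgroup G} (hL : Cfsg.IsComponent L) (hH : H.IsSubnormal) :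
    L ≤ H ∨ ⁅L, H⁆ = ⊥ :=
  le_or_commutator_aux _ le_rfl hL hH

/-- A subnormal subgroup inside a component is the component or commutes with it. -/
theorem component_eq_or_commutator_of_subnormal {L H : Subgroup G} (hL : Cfsg.IsComponent L)
    (hH : H.IsSubnormal) (hle : H ≤ L) : H = L ∨ ⁅L, H⁆ = ⊥ :=
  (le_or_commutator_eq_bot hL hH).imp_left (le_antisymm hle)

/-- Distinct components commute. -/
theorem commutator_components_eq_bot {L₁ L₂ : Subgroup G} (h₁ : Cfsg.IsComponent L₁)
    (h₂ : Cfsg.IsComponent L₂) (hne : L₁ ≠ L₂) : ⁅L₁, L₂⁆ = ⊥ := by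
  obtain h | h := le_or_commutator_eq_bot h₁ h₂.1
  · obtain h' | h' := component_eq_or_commutator_of_subnormal h₂ h₁.1 h
    · exact absurd h' hne
    · rwa [commutator_comm]
  · exact h

theorem component_le_normalizer {L₁ L₂ : Subgroup G} (h₁ : Cfsg.IsComponent L₁)
    (h₂ : Cfsg.IsComponent L₂) : L₁ ≤ normalizer (L₂ : Set G) := by
  obtain rfl | hne := eq_or_ne L₁ L₂
  · exact le_normalizer
  · exact (le_centralizer_of_commutator_eq_bot (commutator_components_eq_bot h₁ h₂ hne)).trans
      (centralizer_le_normalizer _)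

/-- A component commutes with every solvable subgroup that it normalizes. -/
theorem component_commutator_solvable {L H : Subgroup G} (hL : Cfsg.IsComponent L)
    (hsolv : Group.IsSolvable H) (hinv : L ≤ normalizer (H : Set G)) : ⁅L, H⁆ = ⊥ := by
  have hH : H ≤ L ⊔ H := le_sup_right
  have hn : (H.subgroupOf (L ⊔ H)).Normal :=
    (normal_subgroupOf_iff_le_normalizer hH).mpr (sup_le hinv le_normalizer)
  obtain h | h := le_or_commutator_eq_bot (isComponent_subgroupOf hL (le_sup_left : L ≤ L ⊔ H))
    hn.isSubnormal
  · have hLH : L ≤ H := le_of_subgroupOf_le le_sup_left h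
    haveI := hsolv
    exact absurd (Group.isSolvable_of_isSolvable_injective (inclusion_injective hLH))
      (component_not_isSolvable hL)
  · exact (commutator_subgroupOf_eq_bot_iff le_sup_left hH).mp h

/-- The layer commutes with every solvable normal subgroup. -/
theorem commutator_layer_solvable (N : Subgroup G) [N.Normal] [Group.IsSolvable N] :
    ⁅Cfsg.layer G, N⁆ = ⊥ :=
  commutator_sSup_eq_bot fun _ hL =>
    component_commutator_solvable hL inferInstance le_normalizer_of_normal

theorem layer_le_normalizer_component {L : Subgroup G} (hL : Cfsg.IsComponent L) :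
    Cfsg.layer G ≤ normalizer (L : Set G) :=
  sSup_le fun _ hK => component_le_normalizer hK hL

/-- A subnormal perfect-commutator dichotomy for images: the image of a component under a surjective
homomorphism is trivial or a component. -/
theorem map_component_eq_bot_or_isComponent {f : G →* G'} (hf : Function.Surjective f)
    {L : Subgroup G} (hL : Cfsg.IsComponent L) : L.map f = ⊥ ∨ Cfsg.IsComponent (L.map f) := by
  obtain h | h := eq_or_ne (L.map f) ⊥
  · exact Or.inl h
  · right
    haveI : Nontrivial (L.map f) := (L.map f).nontrivial_iff_ne_bot.mpr h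
    exact ⟨hL.1.map hf, isQuasisimple_of_surjective hL.2 (f.subgroupMap L)
      (f.subgroupMap_surjective L)⟩

end Finite

/-! ### The layer -/

theorem component_le_layer {L : Subgroup G} (hL : Cfsg.IsComponent L) : L ≤ Cfsg.layer G :=
  le_sSup hL

theorem commutator_layer_self : ⁅Cfsg.layer G, Cfsg.layer G⁆ = Cfsg.layer G :=
  le_antisymm (commutator_le_self _) (sSup_le fun L hL =>
    (component_commutator_self hL).ge.trans
      (commutator_mono (component_le_layer hL) (component_le_layer hL)))

theorem map_layer_le_of_surjective [Finite G] {f : G →* G'} (hf : Function.Surjective f) :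
    (Cfsg.layer G).map f ≤ Cfsg.layer G' := by
  rw [map_le_iff_le_comap]
  refine sSup_le fun L hL => map_le_iff_le_comap.mp ?_
  obtain h | h := map_component_eq_bot_or_isComponent hf hL
  · simp [h]
  · exact component_le_layer h

theorem map_layer_equiv (e : G ≃* G') : (Cfsg.layer G).map e.toMonoidHom = Cfsg.layer G' := by
  refine le_antisymm ?_ (sSup_le fun L hL => ?_)
  · rw [map_le_iff_le_comap]
    exact sSup_le fun L hL => map_le_iff_le_comap.mp (component_le_layer (isComponent_map_equiv e hL))
  · have := map_mono (f := e.toMonoidHom) (component_le_layer (isComponent_map_equiv e.symm hL))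
    rw [Subgroup.map_map] at this
    simpa using this

instance layer_characteristic : (Cfsg.layer G).Characteristic :=
  characteristic_iff_map_eq.mpr fun e => map_layer_equiv e

/-! ### Centre of a product of commuting subgroups -/

/-- If the members of a finite family commute pairwise, an element of their join commuting with each
of them lies in the join of their centres. -/
theorem mem_sup_center_of_pairwise_commute [DecidableEq (Subgroup G)] (s : Finset (Subgroup G))
    (hs : ∀ A ∈ s, ∀ B ∈ s, A ≠ B → ⁅A, B⁆ = ⊥) :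
    ∀ z ∈ s.sup id, (∀ A ∈ s, z ∈ centralizer (A : Set G)) →
      z ∈ s.sup fun A => A ⊓ centralizer (A : Set G) := by
  induction s using Finset.induction_on with
  | empty => exact fun z hz _ => hz
  | insert L s hLs ih =>
    intro z hz hc
    rw [Finset.sup_insert, id_eq] at hz
    have hLM : ∀ A ∈ s, ⁅A, L⁆ = ⊥ := fun A hA =>
      hs A (Finset.mem_insert_of_mem hA) L (Finset.mem_insert_self L s)
        fun e => hLs (e ▸ hA)
    have hLc : s.sup id ≤ centralizer (L : Set G) :=
      Finset.sup_le fun A hA => le_centralizer_of_commutator_eq_bot (hLM A hA)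
    have hnorm : L ≤ normalizer ((s.sup id : Subgroup G) : Set G) :=
      (le_centralizer_iff.mp hLc).trans (centralizer_le_normalizer _)
    rw [← SetLike.mem_coe, coe_mul_of_left_le_normalizer_right _ _ hnorm] at hz
    obtain ⟨l, hl, m, hm, rfl⟩ := hz
    rw [Finset.sup_insert]
    have hlc : l ∈ centralizer (L : Set G) := by
      have h := mul_mem (hc L (Finset.mem_insert_self L s)) (inv_mem (hLc hm))
      simpa using h
    refine mul_mem (mem_sup_left ⟨hl, hlc⟩) (mem_sup_right (ih (fun A hA B hB =>
      hs A (Finset.mem_insert_of_mem hA) B (Finset.mem_insert_of_mem hB)) m hm fun A hA => ?_))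
    have hlA : l ∈ centralizer (A : Set G) :=
      le_centralizer_of_commutator_eq_bot (H := L) (K := A) (by rw [commutator_comm]; exact hLM A hA) hl
    have h := mul_mem (inv_mem hlA) (hc A (Finset.mem_insert_of_mem hA))
    simpa using h

/-- The centre of the layer is generated by the centres of the components. -/
theorem center_layer_eq [Finite G] :
    Cfsg.layer G ⊓ centralizer (Cfsg.layer G : Set G) =
      ⨆ L : {K : Subgroup G // Cfsg.IsComponent K},
        (L : Subgroup G) ⊓ centralizer ((L : Subgroup G) : Set G) := by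
  classical
  haveI : Fintype (Subgroup G) := Fintype.ofFinite _
  refine le_antisymm ?_ (iSup_le fun L => le_inf (inf_le_left.trans (component_le_layer L.2)) ?_)
  · rintro z ⟨hz, hc⟩
    have hE : Cfsg.layer G ≤ (Finset.univ.filter fun K : Subgroup G => Cfsg.IsComponent K).sup id :=
      sSup_le fun L hL => Finset.le_sup (f := id) (by simpa using hL)
    have hmem := mem_sup_center_of_pairwise_commute
      (Finset.univ.filter fun K : Subgroup G => Cfsg.IsComponent K)
      (fun A hA B hB hne => commutator_components_eq_bot (by simpa using hA) (by simpa using hB) hne)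
      z (hE hz) (fun A hA =>
        centralizer_le (SetLike.coe_subset_coe.mpr (component_le_layer (by simpa using hA))) hc)
    exact (Finset.sup_le fun A hA => le_iSup_of_le ⟨A, by simpa using hA⟩ le_rfl :
      (Finset.univ.filter fun K : Subgroup G => Cfsg.IsComponent K).sup
        (fun A => A ⊓ centralizer (A : Set G)) ≤ _) hmem
  · rw [le_centralizer_iff]
    refine sSup_le fun K hK => le_centralizer_iff.mp ?_
    obtain h | h := eq_or_ne K (L : Subgroup G)
    · exact h ▸ inf_le_right
    · exact inf_le_left.trans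
        (le_centralizer_of_commutator_eq_bot (commutator_components_eq_bot L.2 hK h.symm))

end CfsgLib.Components
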