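import Cfsg.Agent.Lib.Components.Basic
import Cfsg.Agent.Classical.SLGen

/-!
# `SL_n` is quasisimple, and block embeddings `SL_m → SL_{m+1}`
-/

set_option autoImplicit false

namespace CfsgLib.Components39

open Matrix

/-- `SL_n(F)` is quasisimple for `n ≥ 2`, `(n, |F|) ≠ (2, 2), (2, 3)`. -/
theorem sl_isQuasisimple {F : Type*} [Field F] [Fintype F] {n : ℕ} (hn : 2 ≤ n)
    (h : n = 2 → 4 ≤ Fintype.card F) : Cfsg.IsQuasisimple (SpecialLinearGroup (Fin n) F) := by
  classical
  rcases eq_or_lt_of_le hn with rfl | h3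
  · have h4 : 4 ≤ Nat.card F := by rw [Nat.card_eq_fintype_card]; exact h rfl
    obtain ⟨x, hx⟩ : IsCyclic Fˣ := inferInstance
    refine ⟨⟨Matrix.SL2.commutator_eq_top (a := (x : F)) (Units.ne_zero x) fun h' => ?_⟩,
      Matrix.ProjectiveSpecialLinearGroup.rank_two_simple h4⟩
    have h'' : orderOf x ≤ 2 := orderOf_le_of_pow_eq_one zero_lt_two (Units.ext (by simpa using h'))
    rw [orderOf_eq_card_of_forall_mem_zpowers hx, Nat.card_units] at h''
    omega
  · exact ⟨⟨Cfsg.Agent.Classical.sl_commutator_eq_top (by simp; omega)⟩,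
      Cfsg.Agent.Classical.psl_isSimpleGroup (by simp; omega)⟩

section Block

variable {F : Type*} [Field F] {κ ι : Type*} [Fintype κ] [DecidableEq κ] [Fintype ι] [DecidableEq ι]
  (e : κ ⊕ Fin 1 ≃ ι)

/-- The block matrix `diag(A, a)`. -/
def blk (A : Matrix κ κ F) (a : F) : Matrix ι ι F :=
  reindex e e (fromBlocks A 0 0 (diagonal fun _ => a))

theorem blk_apply_inl (A : Matrix κ κ F) (a : F) (i j : κ) :
    blk e A a (e (.inl i)) (e (.inl j)) = A i j := by simp [blk]

theorem blk_apply_inr (A : Matrix κ κ F) (a : F) :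
    blk e A a (e (.inr 0)) (e (.inr 0)) = a := by simp [blk]

theorem blk_apply_inl_inr (A : Matrix κ κ F) (a : F) (i : κ) (j : Fin 1) :
    blk e A a (e (.inl i)) (e (.inr j)) = 0 := by simp [blk]

theorem blk_apply_inr_inl (A : Matrix κ κ F) (a : F) (i : κ) (j : Fin 1) :
    blk e A a (e (.inr j)) (e (.inl i)) = 0 := by simp [blk]

theorem blk_mul (A B : Matrix κ κ F) (a b : F) : blk e A a * blk e B b = blk e (A * B) (a * b) := by
  simp only [blk, reindex_apply, submatrix_mul_equiv, fromBlocks_multiply, diagonal_mul_diagonal,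
    Matrix.mul_zero, Matrix.zero_mul, add_zero, zero_add]

theorem blk_one : blk e (1 : Matrix κ κ F) 1 = 1 := by
  simp [blk, fromBlocks_one]

theorem det_blk (A : Matrix κ κ F) (a : F) : (blk e A a).det = A.det * a := by
  simp [blk, det_fromBlocks_zero₂₁]

theorem blk_injective {A B : Matrix κ κ F} {a b : F} (h : blk e A a = blk e B b) : A = B ∧ a = b :=
  ⟨Matrix.ext fun i j => by rw [← blk_apply_inl e A a, h, blk_apply_inl],
    by rw [← blk_apply_inr e A a, h, blk_apply_inr]⟩

theorem eq_blk {M : Matrix ι ι F}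
    (h1 : ∀ i, M (e (.inl i)) (e (.inr 0)) = 0) (h2 : ∀ i, M (e (.inr 0)) (e (.inl i)) = 0) :
    M = blk e (M.submatrix (e ∘ Sum.inl) (e ∘ Sum.inl)) (M (e (.inr 0)) (e (.inr 0))) := by
  ext x y
  obtain ⟨x, rfl⟩ := e.surjective x
  obtain ⟨y, rfl⟩ := e.surjective y
  rcases x with i | i <;> rcases y with j | j
  · simp [blk_apply_inl]
  · rw [Subsingleton.elim j 0, blk_apply_inl_inr, h1]
  · rw [Subsingleton.elim i 0, blk_apply_inr_inl, h2]
  · rw [Subsingleton.elim i 0, Subsingleton.elim j 0, blk_apply_inr]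

theorem blk_diagonal (d : ι → F) :
    blk e (diagonal fun i => d (e (.inl i))) (d (e (.inr 0))) = diagonal d := by
  refine ((eq_blk e (M := diagonal d) (fun i => diagonal_apply_ne _ (by simp))
    (fun i => diagonal_apply_ne _ (by simp))).trans ?_).symm
  rw [submatrix_diagonal _ _ (e.injective.comp Sum.inl_injective), diagonal_apply_eq]
  rfl

/-- A matrix commuting with `diag(-1, 1)` is block diagonal. -/
theorem eq_blk_of_commute (h2 : (2 : F) ≠ 0) {M : Matrix ι ι F}
    (h : blk e (-1) 1 * M = M * blk e (-1) 1) :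
    M = blk e (M.submatrix (e ∘ Sum.inl) (e ∘ Sum.inl)) (M (e (.inr 0)) (e (.inr 0))) := by
  set d : ι → F := fun x => Sum.elim (fun _ => (-1 : F)) (fun _ => 1) (e.symm x)
  have hd : blk e (-1 : Matrix κ κ F) 1 = diagonal d := by
    rw [← blk_diagonal e d]
    simp [d, ← diagonal_neg, ← diagonal_one]
  rw [hd] at h
  have key : ∀ i, M (e (.inl i)) (e (.inr 0)) = 0 ∧ M (e (.inr 0)) (e (.inl i)) = 0 := by
    intro i
    have e1 := congr_fun₂ h (e (.inl i)) (e (.inr 0))
    have e2 := congr_fun₂ h (e (.inr 0)) (e (.inl i))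
    simp only [diagonal_mul, mul_diagonal, d, Equiv.symm_apply_apply, Sum.elim_inl, Sum.elim_inr,
      one_mul, mul_one, neg_mul, mul_neg] at e1 e2
    exact ⟨by grind, by grind⟩
  exact eq_blk e (fun i => (key i).1) (fun i => (key i).2)

/-- A matrix commuting with all `diag(A, 1)`, `det A = 1`, is of the form `diag(l, …, l, a)`. -/
theorem eq_blk_scalar_of_commute [Nontrivial κ] {M : Matrix ι ι F}
    (h : ∀ A : SpecialLinearGroup κ F, blk e (A : Matrix κ κ F) 1 * M = M * blk e (A : Matrix κ κ F) 1) :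
    ∃ l a : F, M = blk e (scalar κ l) a := by
  classical
  have key : ∀ i j : κ, i ≠ j → ∀ x, (x ≠ e (.inl i) → M x (e (.inl i)) = 0) ∧
      (x ≠ e (.inl j) → M (e (.inl j)) x = 0) ∧ M (e (.inl i)) (e (.inl i)) = M (e (.inl j)) (e (.inl j)) := by
    intro i j hij x
    have hA : blk e ((SpecialLinearGroup.transvection hij (1 : F) : SpecialLinearGroup κ F) : Matrix κ κ F) 1
        = 1 + Matrix.single (e (.inl i)) (e (.inl j)) (1 : F) := by
      ext a b
      obtain ⟨a, rfl⟩ := e.surjective a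
      obtain ⟨b, rfl⟩ := e.surjective b
      rcases a with a | a <;> rcases b with b | b <;>
        simp [SpecialLinearGroup.transvection_coe, blk_apply_inl, blk_apply_inl_inr, blk_apply_inr_inl,
          Matrix.one_apply, Matrix.single_apply, blk, diagonal_apply]
    have h1 := h (SpecialLinearGroup.transvection hij (1 : F))
    rw [hA, add_mul, mul_add, one_mul, mul_one, add_right_inj] at h1
    refine ⟨fun hx => ?_, fun hx => ?_, ?_⟩
    · have := congr_fun₂ h1 x (e (.inl j))
      simpa [Matrix.single_mul_apply_of_ne _ _ _ _ _ hx] using this.symm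
    · have := congr_fun₂ h1 (e (.inl i)) x
      simpa [Matrix.mul_single_apply_of_ne _ _ _ _ _ hx] using this
    · have := congr_fun₂ h1 (e (.inl i)) (e (.inl j))
      simpa using this.symm
  have hne : ∀ i : κ, ∃ j, i ≠ j := fun i => (exists_ne i).imp fun _ h => h.symm
  obtain ⟨i₀⟩ : Nonempty κ := inferInstance
  refine ⟨M (e (.inl i₀)) (e (.inl i₀)), M (e (.inr 0)) (e (.inr 0)), ?_⟩
  have hoff : ∀ (i : κ) (x : ι), x ≠ e (.inl i) → M x (e (.inl i)) = 0 ∧ M (e (.inl i)) x = 0 := by
    intro i x hx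
    obtain ⟨j, hj⟩ := hne i
    exact ⟨(key i j hj x).1 hx, (key j i hj.symm x).2.1 hx⟩
  conv_lhs => rw [eq_blk e (fun i => (hoff i _ (by simp)).2) (fun i => (hoff i _ (by simp)).1)]
  congr 1
  ext a b
  rw [submatrix_apply, Function.comp_apply, Function.comp_apply, scalar_apply, diagonal_apply]
  split_ifs with hab
  · subst hab
    by_cases ha : a = i₀
    · rw [ha]
    · exact (key a i₀ ha (e (.inr 0))).2.2
  · exact (hoff b _ (by simpa using hab)).1

/-- The embedding `A ↦ diag(A, 1)` of special linear groups. -/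
def sblk : SpecialLinearGroup κ F →* SpecialLinearGroup ι F where
  toFun A := ⟨blk e (A : Matrix κ κ F) 1, by rw [det_blk, A.2, one_mul]⟩
  map_one' := Subtype.ext (blk_one e)
  map_mul' A B := Subtype.ext (by
    show blk e ((A : Matrix κ κ F) * (B : Matrix κ κ F)) 1 = blk e (A : Matrix κ κ F) 1 * blk e (B : Matrix κ κ F) 1
    rw [blk_mul, mul_one])

theorem coe_sblk (A : SpecialLinearGroup κ F) :
    (sblk e A : Matrix ι ι F) = blk e (A : Matrix κ κ F) 1 := rfl

theorem sblk_injective : Function.Injective (sblk (F := F) e) := fun _ _ h =>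
  Subtype.ext (blk_injective e (congrArg Subtype.val h)).1

theorem commute_blk_neg_one (A : Matrix κ κ F) (a : F) :
    blk e (-1) 1 * blk e A a = blk e A a * blk e (-1) 1 := by simp [blk_mul]

/-- The block `SL` is normalized by the centralizer of `diag(-1, 1)`. -/
theorem exists_conj_sblk (h2 : (2 : F) ≠ 0) {M : Matrix ι ι F} (hM : M.det ≠ 0)
    (h : blk e (-1) 1 * M = M * blk e (-1) 1) (X : SpecialLinearGroup κ F) :
    ∃ Y : SpecialLinearGroup κ F, M * blk e (X : Matrix κ κ F) 1 = blk e (Y : Matrix κ κ F) 1 * M := by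
  have hb := eq_blk_of_commute e h2 h
  set A := M.submatrix (e ∘ Sum.inl) (e ∘ Sum.inl)
  rw [hb, det_blk] at hM
  have hA : IsUnit A.det := (left_ne_zero_of_mul hM).isUnit
  refine ⟨⟨A * X * A⁻¹, ?_⟩, ?_⟩
  · rw [det_mul, det_mul, X.2, mul_one, ← det_mul, mul_nonsing_inv _ hA, det_one]
  · conv_lhs => rw [hb]
    conv_rhs => rw [hb]
    rw [blk_mul, blk_mul, mul_one, one_mul]
    simp [Matrix.mul_assoc, nonsing_inv_mul _ hA]

end Block

end CfsgLib.Components39
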