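import Cfsg.Agent.Lib.Components.ComponentAction
import Cfsg.Agent.Lib.Coprime.Action
import Cfsg.Prelude.Def_Balance

/-!
# Cores of centralizers against components: balance

In a group with trivial `p'`-core, the `p'`-core of the centralizer of an element of order `p`
normalizes every component, centralizes `O_p`, and is controlled by the automizers of the components.
-/

set_option autoImplicit false

namespace CfsgLib.Components

open Subgroup
open scoped commutatorElement

variable {G : Type*} [Group G] [Finite G] {p : ℕ}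

omit [Finite G] in
theorem centralizer_singleton_eq (x : G) :
    centralizer ({x} : Set G) = centralizer (zpowers x : Set G) := by
  rw [zpowers_eq_closure, centralizer_closure]

omit [Finite G] in
theorem normalizer_le_normalizer_centralizer (T : Subgroup G) :
    normalizer (T : Set G) ≤
      normalizer ((centralizer (T : Set G) : Subgroup G) : Set G) := by
  rw [le_normalizer_iff]
  intro g hg c hc
  rw [mem_centralizer_iff] at hc ⊢
  intro u hu
  have := hc _ ((mem_normalizer_iff.mp (inv_mem hg) u).mp hu)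
  calc u * (g * c * g⁻¹) = g * ((g⁻¹ * u * g⁻¹⁻¹) * c) * g⁻¹ := by group
    _ = g * (c * (g⁻¹ * u * g⁻¹⁻¹)) * g⁻¹ := by rw [this]
    _ = g * c * g⁻¹ * u := by group

omit [Finite G] in
theorem normalizer_le_normalizer_inf_centralizer (L : Subgroup G) :
    normalizer (L : Set G) ≤ normalizer ((L ⊓ centralizer (L : Set G) : Subgroup G) : Set G) :=
  fun _ hx => inf_normalizer_le_normalizer_inf ⟨hx, normalizer_le_normalizer_centralizer L hx⟩

/-- `O_{p'}(C_G(S))` as a subgroup of `G`. -/
def centralizerCore (p : ℕ) (S : Set G) : Subgroup G :=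
  (Cfsg.pPrimeCore p (centralizer S)).map (centralizer S).subtype

omit [Finite G] in
theorem centralizerPPrimeCore_eq (x : G) :
    Cfsg.centralizerPPrimeCore p x = centralizerCore p ({x} : Set G) :=
  rfl

omit [Finite G] in
theorem centralizerPPrimeCore_eq_zpowers (x : G) :
    Cfsg.centralizerPPrimeCore p x = centralizerCore p (zpowers x : Set G) := by
  rw [centralizerPPrimeCore_eq, centralizerCore, centralizerCore, centralizer_singleton_eq]

omit [Finite G] in
theorem centralizerCore_le_centralizer (S : Set G) : centralizerCore p S ≤ centralizer S :=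
  map_subtype_le _

theorem card_centralizerCore_coprime (S : Set G) :
    (Nat.card (centralizerCore p S)).Coprime p := by
  rw [centralizerCore, card_map_of_injective (subtype_injective _)]
  exact CfsgLib.PCore.pPrimeCore_coprime

theorem coprime_orderOf_of_mem_centralizerCore {S : Set G} {y : G} (hy : y ∈ centralizerCore p S) :
    (orderOf y).Coprime p :=
  (card_centralizerCore_coprime S).coprime_dvd_left (orderOf_dvd_natCard _ hy)

omit [Finite G] in
theorem map_pPrimeCore_mono_of_eq {A B : Subgroup G} (h : A = B) :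
    (Cfsg.pPrimeCore p A).map A.subtype = (Cfsg.pPrimeCore p B).map B.subtype := by
  subst h
  rfl

/-- The p'-core of a normal subgroup `A` of `M` lies in that of `M`. -/
theorem map_pPrimeCore_le_of_normal {A M : Subgroup G} (hle : A ≤ M)
    (hn : (A.subgroupOf M).Normal) :
    (Cfsg.pPrimeCore p A).map A.subtype ≤ (Cfsg.pPrimeCore p M).map M.subtype := by
  haveI := hn
  rintro _ ⟨a, ha, rfl⟩
  have h : (subgroupOfEquivOfLe hle).symm a ∈ Cfsg.pPrimeCore p (A.subgroupOf M) := by
    rw [← CfsgLib.PCore.map_pPrimeCore_equiv (subgroupOfEquivOfLe hle).symm]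
    exact mem_map_of_mem _ ha
  refine ⟨inclusion hle a, ?_, rfl⟩
  have h' := mem_map_of_mem (A.subgroupOf M).subtype h
  rw [CfsgLib.PCore.map_pPrimeCore_subtype_of_normal] at h'
  exact h'.2

theorem centralizerCore_le_normalizer_core (Q : Subgroup G) :
    centralizerCore p (Q : Set G) ≤
      (Cfsg.pPrimeCore p (normalizer (Q : Set G))).map (normalizer (Q : Set G)).subtype :=
  map_pPrimeCore_le_of_normal (centralizer_le_normalizer _)
    ((normal_subgroupOf_iff_le_normalizer (centralizer_le_normalizer _)).mpr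
      (normalizer_le_normalizer_centralizer Q))

/-- `N_G(Q)` normalizes `O_{p'}(C_G(Q))`. -/
theorem conj_mem_centralizerCore {Q : Subgroup G} {g : G} (hg : g ∈ normalizer (Q : Set G)) {y : G}
    (hy : y ∈ centralizerCore p (Q : Set G)) : g * y * g⁻¹ ∈ centralizerCore p (Q : Set G) := by
  obtain ⟨w, hw, rfl⟩ := hy
  have hg' := normalizer_le_normalizer_centralizer Q hg
  have h : ((centralizer (Q : Set G)).normalizerMonoidHom ⟨g, hg'⟩).toMonoidHom w ∈
      Cfsg.pPrimeCore p (centralizer (Q : Set G)) := by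
    rw [← CfsgLib.PCore.map_pPrimeCore_equiv ((centralizer (Q : Set G)).normalizerMonoidHom ⟨g, hg'⟩)]
    exact mem_map_of_mem _ hw
  exact ⟨_, h, rfl⟩

/-- Cores of centralizers in a smaller centralizer. -/
theorem centralizerCore_inf_le {S T : Set G} (hST : S ⊆ T) :
    centralizerCore p S ⊓ centralizer T ≤ centralizerCore p T := by
  rintro y ⟨⟨w, hw, rfl⟩, hyT⟩
  exact ⟨⟨_, hyT⟩, CfsgLib.PCore.comap_pPrimeCore_le (inclusion (centralizer_le hST))
    (inclusion_injective _) (x := ⟨_, hyT⟩) hw, rfl⟩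

/-- The core of the centralizer of a p-subgroup centralizes `O_p(G)`. -/
theorem centralizerCore_le_centralizer_pCore [Fact p.Prime] {Q : Subgroup G} (hQ : IsPGroup p Q) :
    centralizerCore p (Q : Set G) ≤ centralizer (Cfsg.pCore p G : Set G) := by
  intro y hy
  refine pPrimeElement_mem_centralizer_pCore hQ (coprime_orderOf_of_mem_centralizerCore hy)
    (centralizerCore_le_centralizer _ hy) fun r hr hrc => ?_
  obtain ⟨w, hw, rfl⟩ := hy
  have hr' : (⟨r, hrc⟩ : centralizer (Q : Set G)) ∈ Cfsg.pCore p _ :=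
    CfsgLib.PCore.pCore_subgroupOf_le (centralizer (Q : Set G)) (x := ⟨r, hrc⟩) hr
  exact congrArg Subtype.val
    ((mem_centralizer_iff.mp (CfsgLib.PCore.pPrimeCore_le_centralizer_pCore hw) _ hr').symm)

/-- The core of the centralizer of a p-subgroup normalizes each component. -/
theorem centralizerCore_le_normalizer_component [Fact p.Prime] (hO : Cfsg.pPrimeCore p G = ⊥)
    {Q : Subgroup G} (hQ : IsPGroup p Q) {L : Subgroup G} (hL : Cfsg.IsComponent L) :
    centralizerCore p (Q : Set G) ≤ normalizer (L : Set G) :=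
  (centralizerCore_le_normalizer_core Q).trans
    ((map_mono pPrimeCore_le_layerPreimage).trans
      (map_layerPreimage_normalizer_le_normalizer hO hQ hL))

omit [Finite G] in
theorem isPGroup_zpowers {x : G} [Fact p.Prime] (hx : orderOf x = p) : IsPGroup p (zpowers x) :=
  IsPGroup.of_card (n := 1) (by rw [Nat.card_zpowers, hx, pow_one])

theorem centralizerPPrimeCore_le_centralizer_pCore [Fact p.Prime] {x : G} (hx : orderOf x = p) :
    Cfsg.centralizerPPrimeCore p x ≤ centralizer (Cfsg.pCore p G : Set G) := by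
  rw [centralizerPPrimeCore_eq_zpowers]
  exact centralizerCore_le_centralizer_pCore (isPGroup_zpowers hx)

theorem centralizerPPrimeCore_le_normalizer_component [Fact p.Prime]
    (hO : Cfsg.pPrimeCore p G = ⊥) {x : G} (hx : orderOf x = p) {L : Subgroup G}
    (hL : Cfsg.IsComponent L) : Cfsg.centralizerPPrimeCore p x ≤ normalizer (L : Set G) := by
  rw [centralizerPPrimeCore_eq_zpowers]
  exact centralizerCore_le_normalizer_component hO (isPGroup_zpowers hx) hL

theorem component_center_le_pCore [Fact p.Prime] (hO : Cfsg.pPrimeCore p G = ⊥) {L : Subgroup G}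
    (hL : Cfsg.IsComponent L) : L ⊓ centralizer (L : Set G) ≤ Cfsg.pCore p G := by
  refine le_trans ?_ (center_layer_le_pCore hO)
  rw [center_layer_eq]
  exact le_iSup_of_le (⟨L, hL⟩ : {K : Subgroup G // Cfsg.IsComponent K}) le_rfl

theorem component_inf_centralizer_ne {L : Subgroup G} (hL : Cfsg.IsComponent L) :
    L ⊓ centralizer (L : Set G) ≠ L := fun h =>
  component_commutator_ne_bot hL (commutator_eq_bot_iff_le_centralizer.mpr (inf_eq_left.mp h))

theorem component_le_normalizer_center {L : Subgroup G} :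
    L ≤ normalizer ((L ⊓ centralizer (L : Set G) : Subgroup G) : Set G) :=
  le_normalizer.trans (normalizer_le_normalizer_inf_centralizer L)

/-- An element of order `p` that does not satisfy `[L, x] = L` gives `[L, O_{p'}(C(x))] = 1`. -/
theorem commutator_centralizerPPrimeCore_eq_bot [hp : Fact p.Prime]
    (hO : Cfsg.pPrimeCore p G = ⊥) {x : G} (hx : orderOf x = p) {L : Subgroup G}
    (hL : Cfsg.IsComponent L) (hne : ⁅L, zpowers x⁆ ≠ L) :
    ⁅L, Cfsg.centralizerPPrimeCore p x⁆ = ⊥ := by
  set C := centralizer ({x} : Set G) with hC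
  set Y := Cfsg.centralizerPPrimeCore p x with hY
  have hYC : Y ≤ C := map_subtype_le _
  have hdvdL : p ∣ Nat.card L := dvd_card_component hO hL
  have hYn : Y ≤ normalizer (L : Set G) := centralizerPPrimeCore_le_normalizer_component hO hx hL
  have hCY : ∀ c ∈ C, ∀ y ∈ Y, c * y * c⁻¹ ∈ Y := by
    rintro c hc _ ⟨w, hw, rfl⟩
    exact ⟨⟨c, hc⟩ * w * ⟨c, hc⟩⁻¹, (inferInstance : (Cfsg.pPrimeCore p C).Normal).conj_mem _ hw _,
      rfl⟩
  have hzc : L ⊓ centralizer (L : Set G) ≠ L := component_inf_centralizer_ne hL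
  by_cases hxn : x ∈ normalizer (L : Set G)
  · have hI : ⁅L, zpowers x⁆ ≤ L :=
      le_normalizer_iff_commutator_le_left.mp (zpowers_le.mpr hxn)
    have h1 := (component_eq_or_commutator_of_normalized hL hI
      (normalizer_commutator_ge_left L _)).resolve_left hne
    have h2 : ⁅L, zpowers x⁆ = ⊥ :=
      commutator_eq_bot_of_perfect (component_commutator_self hL) (by rwa [commutator_comm])
    have hLC : L ≤ C := by
      rw [hC, centralizer_singleton_eq]
      exact le_centralizer_of_commutator_eq_bot h2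
    obtain h | h := le_or_commutator_eq_bot (isComponent_subgroupOf hL hLC)
      (inferInstance : (Cfsg.pPrimeCore p C).Normal).isSubnormal
    · exfalso
      have h' := map_mono (f := C.subtype) h
      rw [map_subgroupOf_eq_of_le hLC] at h'
      exact hp.out.coprime_iff_not_dvd.mp (card_centralizerCore_coprime ({x} : Set G)).symm
        (hdvdL.trans (card_dvd_of_le h'))
    · have h' := congrArg (Subgroup.map C.subtype) h
      rwa [map_commutator, map_subgroupOf_eq_of_le hLC, Subgroup.map_bot] at h'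
  -- `x` moves `L`
  let M : Subgroup G := sSup {K : Subgroup G | Cfsg.IsComponent K ∧ K ≠ L}
  have hML : M ≤ centralizer (L : Set G) :=
    sSup_le fun K hK => le_centralizer_of_commutator_eq_bot
      (commutator_components_eq_bot hK.1 hL hK.2)
  have hNM : normalizer (L : Set G) ≤ normalizer (M : Set G) :=
    CfsgLib.Structure.le_normalizer_sSup fun g hg K hK =>
      ⟨isComponent_conj g hK.1, fun h => hK.2 (by
        have h' := mem_normalizer_iff_map_conj_eq.mp hg
        exact map_injective (MulAut.conj g).injective (h.trans h'.symm))⟩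
  have hLnM : L ≤ normalizer (M : Set G) := le_normalizer.trans hNM
  have hmove : ∀ j : ℕ, 1 ≤ j → j < p → L.map (MulAut.conj (x ^ j)).toMonoidHom ≠ L := by
    intro j hj1 hjp h
    have hj : x ^ j ∈ normalizer (L : Set G) := mem_normalizer_iff_map_conj_eq.mpr h
    obtain ⟨m, hm⟩ := exists_pow_eq_self_of_coprime (n := j) (x := x)
      (by rw [hx]; exact (Nat.coprime_of_lt_prime (by omega) hjp hp.out).symm)
    exact hxn (hm ▸ pow_mem hj m)
  -- the diagonal element
  let P : G → ℕ → G := fun l k => (l * x) ^ k * (x ^ k)⁻¹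
  have hPsucc : ∀ l k, P l (k + 1) = l * (x * P l k * x⁻¹) := fun l k => by
    simp only [P, pow_succ']
    group
  have hPM : ∀ l ∈ L, ∀ k j, 1 ≤ j → j + k ≤ p → x ^ j * P l k * (x ^ j)⁻¹ ∈ M := by
    intro l hl k
    induction k with
    | zero => intro j _ _; simp [P]
    | succ k ih =>
      intro j hj1 hjp
      have e : x ^ j * P l (k + 1) * (x ^ j)⁻¹ =
          (x ^ j * l * (x ^ j)⁻¹) * (x ^ (j + 1) * P l k * (x ^ (j + 1))⁻¹) := by
        rw [hPsucc, pow_succ]
        group
      rw [e]
      exact mul_mem (le_sSup (show L.map (MulAut.conj (x ^ j)).toMonoidHom ∈ {K : Subgroup G |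
        Cfsg.IsComponent K ∧ K ≠ L} from ⟨isComponent_conj _ hL, hmove j hj1 (by omega)⟩)
          ⟨l, hl, rfl⟩) (ih (j + 1) (by omega) (by omega))
  have hdiag : ∀ l ∈ L, ∃ m ∈ M, l * m ∈ C := by
    intro l hl
    obtain ⟨k, hk⟩ : ∃ k, p = k + 1 := ⟨p - 1, (Nat.succ_pred_eq_of_pos hp.out.pos).symm⟩
    have hm : x * P l k * x⁻¹ ∈ M := by
      simpa using hPM l hl k 1 le_rfl (by omega)
    refine ⟨_, hm, mem_centralizer_singleton_iff.mpr ?_⟩
    have hc : l * (x * P l k * x⁻¹) = (x * P l k * x⁻¹) * l :=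
      mem_centralizer_iff.mp (hML hm) l hl
    have hxp : x ^ (k + 1) = 1 := by rw [← hk, ← hx, pow_orderOf_eq_one]
    have hd : (l * x) ^ (k + 1) = l * (x * P l k * x⁻¹) := by
      rw [← hPsucc]
      simp [P, hxp]
    have hcx : Commute (l * (x * P l k * x⁻¹)) (l * x) := hd ▸ Commute.pow_self (l * x) (k + 1)
    have hcl : Commute (l * (x * P l k * x⁻¹)) l := (Commute.refl l).mul_left (Commute.symm hc)
    have := hcl.inv_right.mul_right hcx
    rw [inv_mul_cancel_left] at this
    exact this.eq
  -- the projection of the core to `L`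
  set A : Subgroup G := L ⊓ ((Y ⊓ (L ⊔ M)) ⊔ M) with hA
  have hLnA : L ≤ normalizer (A : Set G) := by
    rw [le_normalizer_iff]
    intro l hl a ha
    obtain ⟨haL, ha'⟩ := mem_inf.mp ha
    refine mem_inf.mpr ⟨mul_mem (mul_mem hl haL) (inv_mem hl), ?_⟩
    obtain ⟨m, hm, hlm⟩ := hdiag l hl
    have hnorm : Y ⊓ (L ⊔ M) ≤ normalizer (M : Set G) :=
      inf_le_right.trans (sup_le hLnM le_normalizer)
    obtain ⟨b, hb, m', hm', rfl⟩ := CfsgLib.Coprime.exists_mul_of_mem_sup hnorm ha'
    obtain ⟨hbY, hbLM⟩ := mem_inf.mp hb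
    have hlmLM : l * m ∈ L ⊔ M := mul_mem (mem_sup_left hl) (mem_sup_right hm)
    have h1 : l * m * b * (l * m)⁻¹ ∈ (Y ⊓ (L ⊔ M)) ⊔ M :=
      mem_sup_left (mem_inf.mpr ⟨hCY _ hlm _ hbY, mul_mem (mul_mem hlmLM hbLM) (inv_mem hlmLM)⟩)
    have h2 : l * m * m' * (l * m)⁻¹ ∈ M := by
      have : l * m * m' * (l * m)⁻¹ = l * (m * m' * m⁻¹) * l⁻¹ := by group
      rw [this]
      exact le_normalizer_iff.mp hLnM l hl _ (mul_mem (mul_mem hm hm') (inv_mem hm))
    have h3 : l * (b * m') * l⁻¹ = l * m * (b * m') * (l * m)⁻¹ := by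
      have h := mem_centralizer_iff.mp (hML hm) (b * m') haL
      calc l * (b * m') * l⁻¹ = l * ((b * m') * m) * m⁻¹ * l⁻¹ := by group
        _ = l * (m * (b * m')) * m⁻¹ * l⁻¹ := by rw [h]
        _ = _ := by group
    have h4 : l * m * (b * m') * (l * m)⁻¹ =
        l * m * b * (l * m)⁻¹ * (l * m * m' * (l * m)⁻¹) := by group
    rw [h3, h4]
    exact mul_mem h1 (mem_sup_right h2)
  obtain hAL | hAL := component_eq_or_commutator_of_normalized hL inf_le_left hLnA
  · exfalso
    have hle : L ≤ (Y ⊓ (L ⊔ M)) ⊔ M := inf_eq_left.mp hAL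
    have h1 : p ∣ (L ⊓ M).relIndex L :=
      dvd_relIndex_component hL hdvdL inf_le_left
        (fun l hl => inf_normalizer_le_normalizer_inf ⟨le_normalizer hl, hLnM hl⟩)
        (fun h => component_commutator_ne_bot hL (commutator_eq_bot_iff_le_centralizer.mpr
          ((inf_eq_left.mp h).trans hML)))
    rw [inf_comm, inf_relIndex_right] at h1
    have h2 : M.relIndex L ∣ M.relIndex ((Y ⊓ (L ⊔ M)) ⊔ M) := by
      have hn : (M.subgroupOf ((Y ⊓ (L ⊔ M)) ⊔ M)).Normal :=
        (normal_subgroupOf_iff_le_normalizer le_sup_right).mpr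
          (sup_le (inf_le_right.trans (sup_le hLnM le_normalizer)) le_normalizer)
      haveI := hn
      have := relIndex_dvd_index_of_normal (H := M.subgroupOf ((Y ⊓ (L ⊔ M)) ⊔ M))
        (L.subgroupOf ((Y ⊓ (L ⊔ M)) ⊔ M))
      rwa [relIndex_subgroupOf hle] at this
    have h3 : M.relIndex ((Y ⊓ (L ⊔ M)) ⊔ M) ∣ Nat.card Y := by
      refine dvd_trans ?_ (card_dvd_of_le (inf_le_left : Y ⊓ (L ⊔ M) ≤ Y))
      refine Nat.dvd_of_mul_dvd_mul_left (k := Nat.card M) Nat.card_pos ?_
      rw [← relIndex_bot_left M, relIndex_mul_relIndex ⊥ M _ bot_le le_sup_right, relIndex_bot_left,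
        relIndex_bot_left, mul_comm]
      exact CfsgLib.Coprime.card_sup_dvd (inf_le_right.trans (sup_le hLnM le_normalizer))
    exact hp.out.coprime_iff_not_dvd.mp (card_centralizerCore_coprime ({x} : Set G)).symm
      (h1.trans (h2.trans h3))
  · refine commutator_eq_bot_of_perfect (component_commutator_self hL) (le_bot_iff.mp ?_)
    refine le_trans (commutator_mono (?_ : ⁅L, Y⁆ ≤ A) le_rfl) (by rw [commutator_comm, hAL])
    rw [commutator_le]
    intro l hl y hy
    obtain ⟨m, hm, hlm⟩ := hdiag l hl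
    have hylL : y * l * y⁻¹ ∈ L := le_normalizer_iff.mp hYn y hy l hl
    refine mem_inf.mpr ⟨?_, ?_⟩
    · rw [commutatorElement_def, mul_assoc, mul_assoc, ← mul_assoc y]
      exact mul_mem hl (le_normalizer_iff.mp hYn y hy _ (inv_mem hl))
    · have hlmLM : l * m ∈ L ⊔ M := mul_mem (mem_sup_left hl) (mem_sup_right hm)
      have hyM : y * m * y⁻¹ ∈ M := le_normalizer_iff.mp (hYn.trans hNM) y hy m hm
      have h1 : ⁅l * m, y⁆ ∈ Y ⊓ (L ⊔ M) := by
        refine mem_inf.mpr ⟨?_, ?_⟩
        · rw [commutatorElement_def]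
          exact mul_mem (hCY _ hlm _ hy) (inv_mem hy)
        · rw [commutatorElement_def]
          have : l * m * y * (l * m)⁻¹ * y⁻¹ =
              (l * m) * ((y * l * y⁻¹) * (y * m * y⁻¹))⁻¹ := by group
          rw [this]
          exact mul_mem hlmLM (inv_mem (mul_mem (mem_sup_left hylL) (mem_sup_right hyM)))
      have h2 : ⁅l, y⁆ = ⁅l * m, y⁆ * (⁅m, y⁆)⁻¹ := by
        have hc := mem_centralizer_iff.mp (hML (mul_mem hm (inv_mem hyM))) _ (inv_mem hylL)
        rw [commutatorElement_def, commutatorElement_def, commutatorElement_def]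
        rw [show l * y * l⁻¹ * y⁻¹ = l * (y * l * y⁻¹)⁻¹ by group]
        rw [show l * m * y * (l * m)⁻¹ * y⁻¹ * (m * y * m⁻¹ * y⁻¹)⁻¹ =
          l * ((m * (y * m * y⁻¹)⁻¹) * (y * l * y⁻¹)⁻¹) * (m * (y * m * y⁻¹)⁻¹)⁻¹ by group]
        rw [← hc]
        group
      rw [h2]
      refine mul_mem (mem_sup_left h1) (inv_mem (mem_sup_right ?_))
      rw [commutatorElement_def, mul_assoc, mul_assoc, ← mul_assoc y]
      exact mul_mem hm (le_normalizer_iff.mp (hYn.trans hNM) y hy _ (inv_mem hm))

/-- A `p'`-subgroup centralizing `O_p(G)` and every component is trivial. -/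
theorem eq_bot_of_centralizes [Fact p.Prime] (hO : Cfsg.pPrimeCore p G = ⊥) {Y : Subgroup G}
    (hYc : (Nat.card Y).Coprime p) (hYR : Y ≤ centralizer (Cfsg.pCore p G : Set G))
    (hL : ∀ L : Subgroup G, Cfsg.IsComponent L → ⁅L, Y⁆ = ⊥) : Y = ⊥ := by
  have h : Y ≤ Cfsg.pCore p G := by
    rw [← fitting_eq_pCore_of_pPrimeCore_eq_bot hO]
    refine le_trans ?_ centralizer_generalizedFitting_le_fitting
    rw [le_centralizer_iff]
    refine sup_le (sSup_le fun L hLc => le_centralizer_of_commutator_eq_bot (hL L hLc)) ?_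
    rw [fitting_eq_pCore_of_pPrimeCore_eq_bot hO]
    exact le_centralizer_iff.mp hYR
  exact CfsgLib.PCore.eq_bot_of_isPGroup_coprime (CfsgLib.PCore.pCore_isPGroup.to_le h) hYc

/-- Inside an automizer of `L`, the image of a core of a centralizer is in the core of the centralizer
of the image. -/
theorem map_le_centralizerPPrimeCore [hp : Fact p.Prime] (hO : Cfsg.pPrimeCore p G = ⊥)
    {a : G} (ha : orderOf a = p) {L : Subgroup G} (hL : Cfsg.IsComponent L) {H : Subgroup G}
    (hH : H ≤ normalizer (L : Set G))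
    (hH2 : H ≤ (centralizer ({a} : Set G) ⊓ normalizer (L : Set G)) ⊔ L) (haH : a ∈ H)
    {Q : Type*} [Group Q] [Finite Q] (f : H →* Q) (hf : Function.Surjective f)
    (hker : f.ker = (centralizer (L : Set G)).subgroupOf H) {Y : Subgroup G}
    (hY : Y ≤ Cfsg.centralizerPPrimeCore p a) :
    (Y.subgroupOf H).map f ≤ Cfsg.centralizerPPrimeCore p (f ⟨a, haH⟩) := by
  set Z := L ⊓ centralizer (L : Set G)
  have haL : a ∈ normalizer (L : Set G) := hH haH
  have hZp : IsPGroup p Z := CfsgLib.PCore.pCore_isPGroup.to_le (component_center_le_pCore hO hL)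
  set Qa := zpowers a ⊔ Z
  have hQp : IsPGroup p Qa :=
    (isPGroup_zpowers ha).to_sup_of_normal_right' hZp
      (zpowers_le.mpr (normalizer_le_normalizer_inf_centralizer L haL))
  have haQ : zpowers a ≤ Qa := le_sup_left
  have hCQ : centralizer (Qa : Set G) ≤ centralizer ({a} : Set G) :=
    centralizer_le (Set.singleton_subset_iff.mpr (haQ (mem_zpowers a)))
  have hYY : Y ≤ centralizerCore p (Qa : Set G) := by
    intro y hy
    have h1 := hY hy
    have hyQ : y ∈ centralizer (Qa : Set G) := by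
      rw [← zpowers_le, le_centralizer_iff]
      refine sup_le ?_ ?_ <;> rw [le_centralizer_iff, zpowers_le]
      · rw [← centralizer_singleton_eq]
        exact map_subtype_le _ h1
      · exact centralizer_le (SetLike.coe_subset_coe.mpr (component_center_le_pCore hO hL))
          (centralizerPPrimeCore_le_centralizer_pCore ha h1)
    exact centralizerCore_inf_le (Set.singleton_subset_iff.mpr (haQ (mem_zpowers a))) ⟨h1, hyQ⟩
  set I := (centralizerCore p (Qa : Set G)).subgroupOf H
  -- the centralizer of the image normalises the image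
  have hnorm : ∀ c : H, f c * f ⟨a, haH⟩ = f ⟨a, haH⟩ * f c → (c : G) ∈ normalizer (Qa : Set G) := by
    intro c hc
    have hc' : ⁅(c : G), a⁆ ∈ centralizer (L : Set G) := by
      have h : ⁅c, (⟨a, haH⟩ : H)⁆ ∈ f.ker := by
        rw [MonoidHom.mem_ker, map_commutatorElement, commutatorElement_eq_one_iff_mul_comm, hc]
      rw [hker] at h
      exact h
    obtain ⟨g, hg, l, hl, hgl⟩ := CfsgLib.Coprime.exists_mul_of_mem_sup
      (H := centralizer ({a} : Set G) ⊓ normalizer (L : Set G)) inf_le_right (hH2 c.2)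
    obtain ⟨hga, hgL⟩ := mem_inf.mp hg
    rw [mem_centralizer_singleton_iff] at hga
    rw [hgl] at hc' ⊢
    refine mul_mem ?_ ?_
    · refine CfsgLib.Coprime.mem_normalizer_of_forall_conj fun q hq => ?_
      refine (show Qa ≤ Qa.comap (MulAut.conj g).toMonoidHom from sup_le ?_ ?_) hq
      · rw [zpowers_le, mem_comap]
        simpa [hga] using haQ (mem_zpowers a)
      · intro z hz
        exact mem_sup_right
          ((mem_normalizer_iff.mp (normalizer_le_normalizer_inf_centralizer L hgL) z).mp hz)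
    · have hla : l * a * l⁻¹ * a⁻¹ ∈ Z := by
        refine mem_inf.mpr ⟨?_, ?_⟩
        · rw [mul_assoc, mul_assoc, ← mul_assoc a]
          exact mul_mem hl ((mem_normalizer_iff.mp haL _).mp (inv_mem hl))
        · have h := (mem_normalizer_iff.mp
            (normalizer_le_normalizer_centralizer L (inv_mem hgL)) _).mp hc'
          have hga' : g⁻¹ * a * g = a := by rw [mul_assoc, ← hga, inv_mul_cancel_left]
          have e : g⁻¹ * ⁅g * l, a⁆ * g⁻¹⁻¹ = l * a * l⁻¹ * (g⁻¹ * a * g)⁻¹ := by
            rw [commutatorElement_def]; group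
          rwa [e, hga'] at h
      refine CfsgLib.Coprime.mem_normalizer_of_forall_conj fun q hq => ?_
      refine (show Qa ≤ Qa.comap (MulAut.conj l).toMonoidHom from sup_le ?_ ?_) hq
      · rw [zpowers_le, mem_comap]
        have : (MulAut.conj l).toMonoidHom a = (l * a * l⁻¹ * a⁻¹) * a := by
          simp [mul_assoc]
        rw [this]
        exact mul_mem (mem_sup_right hla) (haQ (mem_zpowers a))
      · intro z hz
        rw [mem_comap]
        refine mem_sup_right ?_
        have : (MulAut.conj l).toMonoidHom z = z := by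
          simp [mem_centralizer_iff.mp hz.2 l hl]
        rw [this]
        exact hz
  -- the image is a normal `p'`-subgroup of the centralizer
  have hIC : I.map f ≤ centralizer ({f ⟨a, haH⟩} : Set Q) := by
    rintro _ ⟨w, hw, rfl⟩
    rw [mem_centralizer_singleton_iff, ← map_mul, ← map_mul]
    congr 1
    exact Subtype.ext (mem_centralizer_singleton_iff.mp (hCQ (centralizerCore_le_centralizer _ hw)))
  have hIn : ((I.map f).subgroupOf (centralizer ({f ⟨a, haH⟩} : Set Q))).Normal := by
    refine (normal_subgroupOf_iff_le_normalizer hIC).mpr (le_normalizer_iff.mpr ?_)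
    intro q hq r hr
    obtain ⟨w, hw, rfl⟩ := hr
    obtain ⟨c, rfl⟩ := hf q
    refine ⟨c * w * c⁻¹, ?_, by simp⟩
    exact conj_mem_centralizerCore (hnorm c (mem_centralizer_singleton_iff.mp hq)) hw
  have hIp : (Nat.card (I.map f)).Coprime p := by
    refine Nat.Coprime.coprime_dvd_left (card_map_dvd I f) ?_
    refine Nat.Coprime.coprime_dvd_left ?_ (card_centralizerCore_coprime (p := p) (Qa : Set G))
    exact card_comap_dvd_of_injective (centralizerCore p (Qa : Set G)) H.subtype H.subtype_injective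
  refine le_trans (map_mono (comap_mono hYY)) ?_
  show I.map f ≤ _
  rw [← map_subgroupOf_eq_of_le hIC]
  refine map_mono (CfsgLib.PCore.le_pPrimeCore hIn ?_)
  rwa [Nat.card_congr (subgroupOfEquivOfLe hIC).toEquiv]

theorem normal_centralizer_subgroupOf {L H : Subgroup G} (hH : H ≤ normalizer (L : Set G)) :
    ((centralizer (L : Set G)).subgroupOf H).Normal := by
  refine ⟨fun c hc n => ?_⟩
  exact le_normalizer_iff.mp (normalizer_le_normalizer_centralizer L) _ (hH n.2) _ hc

theorem zpowers_le_normalizer_of_commutator_eq {L : Subgroup G} {a : G}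
    (h : ⁅L, zpowers a⁆ = L) : a ∈ normalizer (L : Set G) := by
  have := normalizer_commutator_ge_right L (zpowers a) (mem_zpowers a)
  rwa [h] at this

theorem notMem_centralizer_of_commutator_eq {L : Subgroup G} (hL : Cfsg.IsComponent L) {a : G}
    (h : ⁅L, zpowers a⁆ = L) : a ∉ centralizer (L : Set G) := fun hc => by
  refine component_ne_bot hL ?_
  rw [← h, commutator_comm, commutator_eq_bot_iff_le_centralizer, zpowers_le]
  exact hc

/-- Balance of the automizers of `L` kills the action of a core of a centralizer on `L`. -/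
theorem commutator_eq_bot_of_balanced_automizer [hp : Fact p.Prime] (hO : Cfsg.pPrimeCore p G = ⊥)
    {L : Subgroup G} (hL : Cfsg.IsComponent L) {a : G} (ha : orderOf a = p)
    (h : ∀ H : Subgroup G, L ≤ H → (L.subgroupOf H).Normal →
      ∀ [((centralizer (L : Set G)).subgroupOf H).Normal],
      Cfsg.IsBalancedFor p (↥H ⧸ (centralizer (L : Set G)).subgroupOf H)) :
    ⁅L, Cfsg.centralizerPPrimeCore p a⁆ = ⊥ := by
  by_cases hne : ⁅L, zpowers a⁆ = L
  swap
  · exact commutator_centralizerPPrimeCore_eq_bot hO ha hL hne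
  set Y := Cfsg.centralizerPPrimeCore p a with hY
  have haN := zpowers_le_normalizer_of_commutator_eq hne
  have hYN := centralizerPPrimeCore_le_normalizer_component hO ha hL
  set H := (zpowers a ⊔ Y) ⊔ L
  have hS : zpowers a ⊔ Y ≤ centralizer ({a} : Set G) ⊓ normalizer (L : Set G) :=
    sup_le (zpowers_le.mpr ⟨mem_centralizer_singleton_iff.mpr rfl, haN⟩)
      (le_inf (map_subtype_le _) hYN)
  have hH : H ≤ normalizer (L : Set G) := sup_le (hS.trans inf_le_right) le_normalizer
  have haH : a ∈ H := mem_sup_left (mem_sup_left (mem_zpowers a))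
  haveI := normal_centralizer_subgroupOf hH
  haveI hLn : (L.subgroupOf H).Normal := (normal_subgroupOf_iff_le_normalizer le_sup_right).mpr hH
  set D := (centralizer (L : Set G)).subgroupOf H
  have hbal := h H le_sup_right hLn
  have hord : orderOf (QuotientGroup.mk' D ⟨a, haH⟩) = p := by
    refine orderOf_eq_prime ?_ ?_
    · rw [← map_pow]
      have : (⟨a, haH⟩ : H) ^ p = 1 := Subtype.ext (by simp [← ha, pow_orderOf_eq_one])
      rw [this, map_one]
    · intro h1
      exact notMem_centralizer_of_commutator_eq hL hne ((QuotientGroup.eq_one_iff (⟨a, haH⟩ : H)).mp h1)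
  have hYO : (Y.subgroupOf H).map (QuotientGroup.mk' D) ≤ Cfsg.pPrimeCore p (H ⧸ D) :=
    (map_le_centralizerPPrimeCore hO ha hL hH (sup_le_sup_right hS L) haH (QuotientGroup.mk' D)
      (QuotientGroup.mk'_surjective D) (QuotientGroup.ker_mk' D) le_rfl).trans (hbal _ hord)
  set A := L ⊓ ((Cfsg.pPrimeCore p (H ⧸ D)).comap (QuotientGroup.mk' D)).map H.subtype
  have hLA : L ≤ normalizer (A : Set G) := by
    intro l hl
    refine inf_normalizer_le_normalizer_inf ⟨le_normalizer hl, ?_⟩
    refine le_normalizer_map _ ⟨⟨l, mem_sup_right hl⟩, ?_, rfl⟩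
    exact le_normalizer_of_normal (mem_top _)
  obtain hA | hA := component_eq_or_commutator_of_normalized hL inf_le_left hLA
  · exfalso
    have hle : L.subgroupOf H ≤ (Cfsg.pPrimeCore p (H ⧸ D)).comap (QuotientGroup.mk' D) := by
      intro l hl
      obtain ⟨w, hw, hwl⟩ := (inf_eq_left.mp hA) hl
      rwa [← show w = l from Subtype.ext hwl]
    have h1 : p ∣ (L ⊓ centralizer (L : Set G)).relIndex L :=
      dvd_relIndex_component hL (dvd_card_component hO hL) inf_le_left
        component_le_normalizer_center (component_inf_centralizer_ne hL)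
    have h2 : Nat.card ((L.subgroupOf H).map (QuotientGroup.mk' D)) =
        (L ⊓ centralizer (L : Set G)).relIndex L := by
      rw [← relIndex_ker, QuotientGroup.ker_mk', relIndex_subgroupOf le_sup_right, inf_comm,
        inf_relIndex_right]
    have h3 := card_dvd_of_le (map_le_iff_le_comap.mpr hle)
    rw [h2] at h3
    exact CfsgLib.PCore.not_dvd_card_pPrimeCore (h1.trans h3)
  · refine commutator_eq_bot_of_perfect (component_commutator_self hL) (le_bot_iff.mp ?_)
    refine le_trans (commutator_mono (?_ : ⁅L, Y⁆ ≤ A) le_rfl) (by rw [commutator_comm, hA])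
    refine le_inf (le_normalizer_iff_commutator_le_left.mp hYN) ?_
    have hYH : Y ≤ H := le_sup_right.trans le_sup_left
    refine le_trans ?_ (map_mono (map_le_iff_le_comap.mp
      ((map_mono (f := QuotientGroup.mk' D) (le_refl ⁅L.subgroupOf H, Y.subgroupOf H⁆)).trans ?_)))
    · rw [map_commutator, map_subgroupOf_eq_of_le le_sup_right, map_subgroupOf_eq_of_le hYH]
    · rw [map_commutator]
      exact (commutator_mono le_rfl hYO).trans (commutator_le_right _ _)

/-! ### Local balance of the components -/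

/-- The action of the normalizer of `L` on `L / Z(L)`. -/
noncomputable def automizerHom (L : Subgroup G) :
    normalizer (L : Set G) →* MulAut (L ⧸ center L) where
  toFun g := QuotientGroup.congr (center L) (center L) (L.normalizerMonoidHom g)
    (characteristic_iff_map_eq.mp inferInstance _)
  map_one' := by
    ext q
    obtain ⟨l, rfl⟩ := QuotientGroup.mk'_surjective (center L) q
    simp
  map_mul' g h := by
    ext q
    obtain ⟨l, rfl⟩ := QuotientGroup.mk'_surjective (center L) q
    simp [map_mul]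
    rfl

theorem automizerHom_apply (L : Subgroup G) (g : normalizer (L : Set G)) (l : L) :
    automizerHom L g (QuotientGroup.mk l) =
      QuotientGroup.mk (⟨(g : G) * l * (g : G)⁻¹, (mem_normalizer_iff.mp g.2 _).mp l.2⟩ : L) :=
  rfl

theorem automizerHom_ker {L : Subgroup G} (hL : Cfsg.IsComponent L) :
    (automizerHom L).ker = (centralizer (L : Set G)).subgroupOf (normalizer (L : Set G)) := by
  refine le_antisymm ?_ fun g hg => ?_
  · set K := (automizerHom L).ker.map (normalizer (L : Set G)).subtype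
    refine fun g hg => ?_
    have hK : ⁅L, K⁆ = ⊥ := by
      refine commutator_eq_bot_of_perfect (component_commutator_self hL) (le_bot_iff.mp ?_)
      refine le_trans (commutator_mono (?_ : ⁅L, K⁆ ≤ centralizer (L : Set G)) le_rfl)
        (commutator_eq_bot_iff_le_centralizer.mpr le_rfl).le
      rw [commutator_le]
      rintro l hl _ ⟨k, hk, rfl⟩
      have h := DFunLike.congr_fun (MonoidHom.mem_ker.mp hk) (QuotientGroup.mk (⟨l, hl⟩ : L))
      rw [automizerHom_apply, MulAut.one_apply, eq_comm, QuotientGroup.eq, mem_center_iff] at h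
      rw [mem_centralizer_iff]
      intro m hm
      have hz : (l⁻¹ : G) * ((k : G) * l * (k : G)⁻¹) ∈ centralizer (L : Set G) :=
        mem_centralizer_iff.mpr fun u hu => congrArg Subtype.val (h ⟨u, hu⟩)
      have hc : ⁅l, (k : G)⁆ ∈ centralizer (L : Set G) := by
        have e : ⁅l, (k : G)⁆ = l * (l⁻¹ * ((k : G) * l * (k : G)⁻¹))⁻¹ * l⁻¹ := by
          rw [commutatorElement_def]; group
        rw [e]
        exact (mem_normalizer_iff.mp
          (normalizer_le_normalizer_centralizer L (le_normalizer hl)) _).mp (inv_mem hz)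
      exact mem_centralizer_iff.mp hc m hm
    rw [commutator_comm] at hK
    exact le_centralizer_of_commutator_eq_bot hK (mem_map_of_mem _ hg)
  · rw [MonoidHom.mem_ker]
    ext q
    obtain ⟨l, rfl⟩ := QuotientGroup.mk'_surjective (center L) q
    rw [QuotientGroup.mk'_apply, automizerHom_apply, MulAut.one_apply]
    congr 1
    ext
    show (g : G) * l * (g : G)⁻¹ = l
    have hgl : (l : G) * (g : G) = (g : G) * l := mem_centralizer_iff.mp hg l l.2
    rw [← hgl, mul_inv_cancel_right]

/-- Local k-balance of `L / Z(L)` kills the action of `Δ(A)` on `L`. -/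
theorem commutator_eq_bot_of_locallyKBalanced [hp : Fact p.Prime] {k : ℕ}
    (hO : Cfsg.pPrimeCore p G = ⊥) {A : Subgroup G} (hA : Cfsg.IsElementaryAbelian p A)
    (hAk : Nat.card A = p ^ k) (hk : 1 ≤ k) {Y : Subgroup G}
    (hY : ∀ a ∈ A, a ≠ 1 → Y ≤ Cfsg.centralizerPPrimeCore p a) {L : Subgroup G}
    (hL : Cfsg.IsComponent L) (hbal : Cfsg.IsLocallyKBalanced p k (L ⧸ center L)) :
    ⁅L, Y⁆ = ⊥ := by
  by_cases hex : ∃ a ∈ A, a ≠ 1 ∧ ⁅L, zpowers a⁆ ≠ L
  · obtain ⟨a, haA, ha1, hne⟩ := hex
    exact le_bot_iff.mp ((commutator_mono le_rfl (hY a haA ha1)).trans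
      (commutator_centralizerPPrimeCore_eq_bot hO (orderOf_eq_prime (hA.2 a haA) ha1) hL hne).le)
  push Not at hex
  obtain ⟨a₀, ha₀A, ha₀1⟩ : ∃ a ∈ A, a ≠ 1 := by
    by_contra hne
    push Not at hne
    have h1 : Nat.card A = 1 := card_eq_one.mpr ((eq_bot_iff_forall A).mpr hne)
    exact absurd (hAk.symm.trans h1) (Nat.one_lt_pow (by omega) hp.out.one_lt).ne'
  have hAN : A ≤ normalizer (L : Set G) := fun a ha => by
    obtain rfl | ha1 := eq_or_ne a 1
    · exact one_mem _
    · exact zpowers_le_normalizer_of_commutator_eq (hex a ha ha1)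
  have hYN : Y ≤ normalizer (L : Set G) := (hY a₀ ha₀A ha₀1).trans
    (centralizerPPrimeCore_le_normalizer_component hO (orderOf_eq_prime (hA.2 a₀ ha₀A) ha₀1) hL)
  set H := (A ⊔ Y) ⊔ L
  have hH : H ≤ normalizer (L : Set G) := sup_le (sup_le hAN hYN) le_normalizer
  let f := ((automizerHom L).comp (inclusion hH)).rangeRestrict
  have hf : Function.Surjective f := MonoidHom.rangeRestrict_surjective _
  have hker : f.ker = (centralizer (L : Set G)).subgroupOf H := by
    rw [MonoidHom.ker_rangeRestrict, ← MonoidHom.comap_ker, automizerHom_ker hL]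
    rfl
  have hInn : (MulAut.conj : (L ⧸ center L) →* MulAut (L ⧸ center L)).range ≤
      ((automizerHom L).comp (inclusion hH)).range := by
    rintro _ ⟨q, rfl⟩
    obtain ⟨l, rfl⟩ := QuotientGroup.mk'_surjective (center L) q
    refine ⟨⟨l, mem_sup_right l.2⟩, ?_⟩
    ext r
    obtain ⟨m, rfl⟩ := QuotientGroup.mk'_surjective (center L) r
    rfl
  have hAH : A ≤ H := le_sup_left.trans le_sup_left
  set A' := (A.subgroupOf H).map f
  have hinj : ∀ u : H, u ∈ A.subgroupOf H → f u = 1 → u = 1 := by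
    intro u hu hu1
    by_contra hne
    have hu' : u ∈ f.ker := hu1
    rw [hker] at hu'
    exact notMem_centralizer_of_commutator_eq hL
      (hex _ hu fun h => hne (Subtype.ext h)) hu'
  have hcomm : ∀ u ∈ A, ∀ v ∈ A, u * v = v * u := fun u hu v hv =>
    congrArg Subtype.val (hA.1.is_comm.comm ⟨u, hu⟩ ⟨v, hv⟩)
  have hA' : Cfsg.IsElementaryAbelian p A' := by
    refine ⟨⟨⟨?_⟩⟩, ?_⟩
    · rintro ⟨_, u, hu, rfl⟩ ⟨_, v, hv, rfl⟩
      apply Subtype.ext
      show f u * f v = f v * f u
      rw [← map_mul, ← map_mul]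
      congr 1
      exact Subtype.ext (hcomm _ hu _ hv)
    · rintro _ ⟨u, hu, rfl⟩
      rw [← map_pow, show u ^ p = 1 from Subtype.ext (by simpa using hA.2 _ hu), map_one]
  have hA'k : Nat.card A' = p ^ k := by
    rw [← hAk, ← Nat.card_congr (subgroupOfEquivOfLe hAH).toEquiv]
    refine CfsgLib.Coprime.card_map_of_disjoint f ?_
    rw [eq_bot_iff]
    rintro u ⟨hu1, hu2⟩
    exact mem_bot.mpr (hinj u hu2 hu1)
  have hzero := hbal _ hInn A' hA' hA'k
  have hY0 : (Y.subgroupOf H).map f = ⊥ := by
    rw [eq_bot_iff, ← hzero]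
    refine le_iInf fun ⟨_, ⟨u, hu, rfl⟩, hu1⟩ => ?_
    have hu1' : (u : G) ≠ 1 := fun h => hu1 (by rw [show u = 1 from Subtype.ext h, map_one])
    refine map_le_centralizerPPrimeCore hO (orderOf_eq_prime (hA.2 _ hu) hu1') hL hH ?_ u.2 f hf
      hker (hY _ hu hu1')
    refine sup_le_sup_right (sup_le (le_inf ?_ hAN) (le_inf ?_ hYN)) L
    · exact fun v hv => mem_centralizer_singleton_iff.mpr (hcomm v hv _ hu)
    · exact (hY _ hu hu1').trans (map_subtype_le _)
  rw [Subgroup.map_eq_bot_iff, hker] at hY0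
  rw [commutator_comm, commutator_eq_bot_iff_le_centralizer]
  exact fun y hy => hY0 (x := ⟨y, mem_sup_left (mem_sup_right hy)⟩) hy

/-! ### Passing to the quotient by the `p'`-core -/

/-- The core of a centralizer maps into the core of the centralizer of the image. -/
theorem map_centralizerPPrimeCore_le [Fact p.Prime] {a : G} (ha : IsPGroup p (zpowers a)) :
    (Cfsg.centralizerPPrimeCore p a).map (QuotientGroup.mk' (Cfsg.pPrimeCore p G)) ≤
      Cfsg.centralizerPPrimeCore p (QuotientGroup.mk' (Cfsg.pPrimeCore p G) a) := by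
  set π := QuotientGroup.mk' (Cfsg.pPrimeCore p G)
  have hC : (centralizer (zpowers a : Set G)).map π =
      centralizer (zpowers (π a) : Set (G ⧸ Cfsg.pPrimeCore p G)) := by
    rw [map_centralizer_quotient CfsgLib.PCore.pPrimeCore_coprime ha, MonoidHom.map_zpowers]
  let f : centralizer (zpowers a : Set G) →*
      ↥(centralizer (zpowers (π a) : Set (G ⧸ Cfsg.pPrimeCore p G))) :=
    (MulEquiv.subgroupCongr hC).toMonoidHom.comp (π.subgroupMap _)
  have hf : Function.Surjective f :=
    (MulEquiv.subgroupCongr hC).surjective.comp (π.subgroupMap_surjective _)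
  rw [centralizerPPrimeCore_eq_zpowers, centralizerPPrimeCore_eq_zpowers]
  rintro _ ⟨_, ⟨w, hw, rfl⟩, rfl⟩
  exact ⟨f w, CfsgLib.PCore.map_pPrimeCore_le f hf (mem_map_of_mem f hw), rfl⟩

/-- Cores of centralizers restricted to a subgroup. -/
theorem centralizerPPrimeCore_subgroupOf_le (H : Subgroup G) (a : H) :
    (Cfsg.centralizerPPrimeCore p (a : G)).subgroupOf H ≤ Cfsg.centralizerPPrimeCore p a := by
  rintro y ⟨w, hw, hwy⟩
  have hwy' : (w : G) = (y : G) := hwy
  have hy : y ∈ centralizer ({a} : Set H) := mem_centralizer_singleton_iff.mpr (Subtype.ext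
    (mem_centralizer_singleton_iff.mp (hwy' ▸ w.2 : (y : G) ∈ centralizer ({(a : G)} : Set G))))
  let g : centralizer ({a} : Set H) →* centralizer ({(a : G)} : Set G) :=
    (H.subtype.comp (centralizer ({a} : Set H)).subtype).codRestrict _ fun v =>
      mem_centralizer_singleton_iff.mpr
        (congrArg Subtype.val (mem_centralizer_singleton_iff.mp v.2))
  have hg : Function.Injective g := fun u v h =>
    Subtype.ext (Subtype.ext (congrArg (fun t : centralizer ({(a : G)} : Set G) => (t : G)) h))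
  refine ⟨⟨y, hy⟩, CfsgLib.PCore.comap_pPrimeCore_le g hg (x := ⟨y, hy⟩) ?_, rfl⟩
  show g ⟨y, hy⟩ ∈ Cfsg.pPrimeCore p _
  rwa [show g ⟨y, hy⟩ = w from Subtype.ext hwy'.symm]

/-- Reduction of (k-)balance at `b` to the quotient of `C(b)` by its core. -/
theorem le_pPrimeCore_of_reduced [hp : Fact p.Prime] {A : Subgroup G} (hA : IsPGroup p A)
    (hA1 : A ≠ ⊥) {Y : Subgroup G}
    (hY : ∀ a ∈ A, a ≠ 1 → Y ≤ Cfsg.centralizerPPrimeCore p a) (hexp : ∀ a ∈ A, a ^ p = 1)
    (h : ∀ L : Subgroup (G ⧸ Cfsg.pPrimeCore p G), Cfsg.IsComponent L →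
      ⁅L, Y.map (QuotientGroup.mk' (Cfsg.pPrimeCore p G))⁆ = ⊥) :
    Y ≤ Cfsg.pPrimeCore p G := by
  obtain ⟨a, haA, ha1⟩ := (A.ne_bot_iff_exists_ne_one).mp hA1 |> fun ⟨⟨a, ha⟩, h⟩ =>
    (⟨a, ha, fun e => h (Subtype.ext e)⟩ : ∃ a ∈ A, a ≠ 1)
  set π := QuotientGroup.mk' (Cfsg.pPrimeCore p G)
  have hord : orderOf a = p := orderOf_eq_prime (hexp a haA) ha1
  have hle : Y.map π ≤ Cfsg.centralizerPPrimeCore p (π a) :=
    (map_mono (hY a haA ha1)).trans (map_centralizerPPrimeCore_le (isPGroup_zpowers hord))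
  have hπa : orderOf (π a) = p := by
    refine orderOf_eq_prime (by rw [← map_pow, hexp a haA, map_one]) fun h1 => ?_
    have h2 : orderOf a ∣ Nat.card (Cfsg.pPrimeCore p G) :=
      orderOf_dvd_natCard _ ((QuotientGroup.eq_one_iff a).mp h1)
    rw [hord] at h2
    exact CfsgLib.PCore.not_dvd_card_pPrimeCore h2
  have h0 : Y.map π = ⊥ :=
    eq_bot_of_centralizes CfsgLib.PCore.pPrimeCore_quotient_pPrimeCore
      ((card_centralizerCore_coprime ({π a} : Set _)).coprime_dvd_left (card_dvd_of_le hle))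
      (hle.trans (centralizerPPrimeCore_le_centralizer_pCore hπa)) h
  rwa [Subgroup.map_eq_bot_iff, QuotientGroup.ker_mk'] at h0

/-- The images of the cores, for the elements of `A`. -/
theorem map_le_centralizerPPrimeCore_of_forall [Fact p.Prime] {A : Subgroup G}
    (hexp : ∀ a ∈ A, a ^ p = 1) {Y : Subgroup G}
    (hY : ∀ a ∈ A, a ≠ 1 → Y ≤ Cfsg.centralizerPPrimeCore p a) {q : G ⧸ Cfsg.pPrimeCore p G}
    (hq : q ∈ A.map (QuotientGroup.mk' (Cfsg.pPrimeCore p G))) (hq1 : q ≠ 1) :
    Y.map (QuotientGroup.mk' (Cfsg.pPrimeCore p G)) ≤ Cfsg.centralizerPPrimeCore p q := by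
  obtain ⟨a, haA, rfl⟩ := hq
  have ha1 : a ≠ 1 := fun h => hq1 (by rw [h, map_one])
  exact (map_mono (hY a haA ha1)).trans
    (map_centralizerPPrimeCore_le (isPGroup_zpowers (orderOf_eq_prime (hexp a haA) ha1)))

end CfsgLib.Components
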