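import Cfsg.Agent.Lib.Components.Local
import Cfsg.Agent.Lib.Techniques.KInfBasic
import Cfsg.Agent.Lib.Coprime.Basic

/-!
# The action of p-local subgroups on components

In a finite group with trivial `p'`-core, the preimage of the layer of a p-local subgroup normalizes
every component.
-/

set_option autoImplicit false

namespace CfsgLib.Components

open Subgroup
open scoped commutatorElement

variable {G : Type*} [Group G] [Finite G] {p : ℕ}

omit [Finite G] in
theorem map_conj_map_conj (H : Subgroup G) (g h : G) :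
    (H.map (MulAut.conj h).toMonoidHom).map (MulAut.conj g).toMonoidHom =
      H.map (MulAut.conj (g * h)).toMonoidHom := by
  rw [map_map]
  congr 1
  ext x
  simp [mul_assoc]

omit [Finite G] in
theorem map_conj_one (H : Subgroup G) : H.map (MulAut.conj (1 : G)).toMonoidHom = H := by
  rw [show (MulAut.conj (1 : G)).toMonoidHom = MonoidHom.id G by ext x; simp, Subgroup.map_id]

omit [Finite G] in
theorem map_conj_pow_eq {L : Subgroup G} {x u : G} (hxu : x * u = u * x)
    (h : L.map (MulAut.conj x).toMonoidHom = L.map (MulAut.conj u).toMonoidHom) (n : ℕ) :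
    L.map (MulAut.conj (x ^ n)).toMonoidHom = L.map (MulAut.conj (u ^ n)).toMonoidHom := by
  induction n with
  | zero => simp only [pow_zero]
  | succ n ih =>
    rw [pow_succ', ← map_conj_map_conj, ih, map_conj_map_conj, (Commute.pow_right hxu n).eq,
      ← map_conj_map_conj, h, map_conj_map_conj, ← pow_succ]

/-- The join of pairwise commuting subgroups with trivial centre has trivial centre. -/
theorem sSup_inf_centralizer_eq_bot {A : Set (Subgroup G)}
    (hcomm : ∀ L ∈ A, ∀ M ∈ A, L ≠ M → ⁅L, M⁆ = ⊥)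
    (hcen : ∀ L ∈ A, L ⊓ centralizer (L : Set G) = ⊥) :
    sSup A ⊓ centralizer ((sSup A : Subgroup G) : Set G) = ⊥ := by
  classical
  haveI : Fintype (Subgroup G) := Fintype.ofFinite _
  rw [eq_bot_iff]
  rintro z ⟨hz, hc⟩
  have hle : sSup A ≤ A.toFinset.sup id :=
    sSup_le fun L hL => Finset.le_sup (f := id) (Set.mem_toFinset.mpr hL)
  have hmem := mem_sup_center_of_pairwise_commute A.toFinset
    (fun L hL M hM => hcomm L (Set.mem_toFinset.mp hL) M (Set.mem_toFinset.mp hM)) z (hle hz)
    (fun L hL => centralizer_le (SetLike.coe_subset_coe.mpr (le_sSup (Set.mem_toFinset.mp hL))) hc)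
  exact (Finset.sup_le fun L hL => (hcen L (Set.mem_toFinset.mp hL)).le :
    A.toFinset.sup (fun L => L ⊓ centralizer (L : Set G)) ≤ ⊥) hmem

/-- A nontrivial element in a p-group normalized by `P` is centralized by `P`. -/
theorem exists_pElement_centralized [hp : Fact p.Prime] {K P : Subgroup G} (hP : IsPGroup p P)
    (hPK : P ≤ normalizer (K : Set G)) (hdvd : p ∣ Nat.card K) :
    ∃ s ∈ K, s ≠ 1 ∧ s ∈ centralizer (P : Set G) ∧ ∃ n : ℕ, s ^ p ^ n = 1 := by
  set M := K ⊔ P
  haveI hK' : (K.subgroupOf M).Normal :=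
    (normal_subgroupOf_iff_le_normalizer le_sup_left).mpr (sup_le le_normalizer hPK)
  obtain ⟨S, hS⟩ := (hP.comap_subtype (K := M)).exists_le_sylow
  have hne : (K.subgroupOf M).subgroupOf (S : Subgroup M) ≠ ⊥ := by
    intro h
    rw [subgroupOf_eq_bot, disjoint_iff] at h
    have hcard := CfsgLib.Coprime.card_sup_of_disjoint
      (H := (S : Subgroup M)) (N := K.subgroupOf M) le_normalizer_of_normal h
    have hd := card_subgroup_dvd_card ((S : Subgroup M) ⊔ K.subgroupOf M)
    rw [hcard, ← (S : Subgroup M).card_mul_index, CfsgLib.Coprime.card_subgroupOf le_sup_left] at hd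
    exact S.not_dvd_index (hdvd.trans (Nat.dvd_of_mul_dvd_mul_left Nat.card_pos hd))
  obtain ⟨z, hzK, hzc, hz1⟩ :=
    CfsgLib.Techniques.KInf.exists_mem_center S.isPGroup' _ hne
  obtain ⟨n, hn⟩ := S.isPGroup' z
  refine ⟨(z : M), hzK, fun h => hz1 (Subtype.ext (Subtype.ext h)), ?_, n,
    by simpa using congrArg (fun w : (S : Subgroup M) => ((w : M) : G)) hn⟩
  rw [mem_centralizer_iff]
  intro u hu
  exact congrArg (fun w : (S : Subgroup M) => ((w : M) : G))
    (mem_center_iff.mp hzc ⟨⟨u, mem_sup_right hu⟩, hS hu⟩)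

/-- A p-local layer preimage fixes each member of an invariant family of commuting subgroups with
trivial centres and orders divisible by `p`. -/
theorem layerPreimage_le_normalizer_of_family [hp : Fact p.Prime] {Ω : Set (Subgroup G)}
    (hconj : ∀ g : G, ∀ M ∈ Ω, M.map (MulAut.conj g).toMonoidHom ∈ Ω)
    (hcomm : ∀ L ∈ Ω, ∀ M ∈ Ω, L ≠ M → ⁅L, M⁆ = ⊥)
    (hcen : ∀ L ∈ Ω, L ⊓ centralizer (L : Set G) = ⊥) (hdvd : ∀ L ∈ Ω, p ∣ Nat.card L)
    {P : Subgroup G} (hP : IsPGroup p P) {L : Subgroup G} (hL : L ∈ Ω) :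
    (layerPreimage p (normalizer (P : Set G))).map (normalizer (P : Set G)).subtype ≤
      normalizer (L : Set G) := by
  set N := normalizer (P : Set G) with hN
  let orb : Set (Subgroup G) := {M | ∃ u ∈ P, L.map (MulAut.conj u).toMonoidHom = M}
  have horb : orb ⊆ Ω := by
    rintro _ ⟨u, _, rfl⟩
    exact hconj u L hL
  have hLorb : L ∈ orb := ⟨1, one_mem P, map_conj_one L⟩
  have horbP : ∀ g ∈ P, ∀ M ∈ orb, M.map (MulAut.conj g).toMonoidHom ∈ orb := by
    rintro g hg _ ⟨u, hu, rfl⟩
    exact ⟨g * u, mul_mem hg hu, (map_conj_map_conj L g u).symm⟩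
  have hΩn : ∀ M ∈ Ω, sSup Ω ≤ normalizer (M : Set G) := fun M hM => sSup_le fun M' hM' => by
    obtain rfl | hne := eq_or_ne M' M
    · exact le_normalizer
    · exact (le_centralizer_of_commutator_eq_bot (hcomm M' hM' M hM hne)).trans
        (centralizer_le_normalizer _)
  set K := sSup orb with hKdef
  have hPK : P ≤ normalizer (K : Set G) := CfsgLib.Structure.le_normalizer_sSup horbP
  obtain ⟨s, hsK, hs1, hsP, n, hsn⟩ := exists_pElement_centralized hP hPK
    ((hdvd L hL).trans (card_dvd_of_le (le_sSup hLorb)))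
  have hsN : s ∈ N := centralizer_le_normalizer _ hsP
  -- elements commuting with `s` modulo the p'-core stabilise the orbit
  have step : ∀ y : N, ⁅y, (⟨s, hsN⟩ : N)⁆ ∈ Cfsg.pPrimeCore p N →
      L.map (MulAut.conj (y : G)).toMonoidHom ∈ orb := by
    intro y hy
    by_contra hyL
    have hdisj : ∀ M ∈ orb, ∀ M' ∈ orb, M ≠ M'.map (MulAut.conj (y : G)).toMonoidHom := by
      rintro _ ⟨u', hu', rfl⟩ _ ⟨u, hu, rfl⟩ h
      rw [map_conj_map_conj] at h
      refine hyL ⟨((y : G) * u * (y : G)⁻¹)⁻¹ * u',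
        mul_mem (inv_mem ((mem_normalizer_iff.mp y.2 u).mp hu)) hu', ?_⟩
      rw [← map_conj_map_conj, h, map_conj_map_conj]
      congr 2
      group
    have hK' : K.map (MulAut.conj (y : G)).toMonoidHom ≤ centralizer (K : Set G) := by
      rw [hKdef, map_le_iff_le_comap]
      refine sSup_le fun M' hM' => map_le_iff_le_comap.mp ?_
      rw [le_centralizer_iff]
      exact sSup_le fun M hM => le_centralizer_of_commutator_eq_bot
        (hcomm M (horb hM) _ (hconj _ M' (horb hM')) (hdisj M hM M' hM'))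
    have hys : (y : G) * s * (y : G)⁻¹ ∈ K.map (MulAut.conj (y : G)).toMonoidHom :=
      ⟨s, hsK, rfl⟩
    have hc : Commute ((y : G) * s * (y : G)⁻¹) s :=
      (mem_centralizer_iff.mp (hK' hys) s hsK).symm
    have hz : ((y : G) * s * (y : G)⁻¹ * s⁻¹) ^ p ^ n = 1 := by
      rw [hc.inv_right.mul_pow, conj_pow, hsn, inv_pow, hsn]
      group
    have hz2 : (⁅y, (⟨s, hsN⟩ : N)⁆ : N) = 1 := by
      have h1 : orderOf ⁅y, (⟨s, hsN⟩ : N)⁆ ∣ p ^ n := orderOf_dvd_of_pow_eq_one
        (Subtype.ext (by simpa [commutatorElement_def] using hz))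
      have h2 := orderOf_dvd_natCard _ hy
      rw [← orderOf_eq_one_iff]
      exact Nat.eq_one_of_dvd_coprimes
        (((CfsgLib.PCore.pPrimeCore_coprime (p := p) (G := N)).symm).pow_left n) h1 h2
    rw [commutatorElement_eq_one_iff_mul_comm] at hz2
    have hsy : (y : G) * s * (y : G)⁻¹ = s := by
      rw [show (y : G) * s = s * y from congrArg Subtype.val hz2, mul_inv_cancel_right]
    rw [hsy] at hys
    have hbot := sSup_inf_centralizer_eq_bot (A := orb)
      (fun A hA B hB => hcomm A (horb hA) B (horb hB)) (fun A hA => hcen A (horb hA))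
    exact hs1 (mem_bot.mp (hbot ▸ ⟨hsK, hK' hys⟩))
  -- the stabiliser of the orbit
  let H : Subgroup N :=
    { carrier := {g | L.map (MulAut.conj (g : G)).toMonoidHom ∈ orb}
      one_mem' := by
        show L.map _ ∈ orb
        rw [Subgroup.coe_one, map_conj_one]
        exact hLorb
      mul_mem' := by
        rintro g h ⟨u', hu', hg⟩ ⟨u, hu, hh⟩
        refine ⟨(g : G) * u * (g : G)⁻¹ * u', mul_mem ((mem_normalizer_iff.mp g.2 u).mp hu) hu', ?_⟩
        rw [← map_conj_map_conj, hg, map_conj_map_conj, Subgroup.coe_mul, ← map_conj_map_conj L g h,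
          ← hh, map_conj_map_conj]
        congr 2
        group
      inv_mem' := by
        rintro g ⟨u, hu, hg⟩
        refine ⟨((g⁻¹ : N) : G) * u⁻¹ * ((g⁻¹ : N) : G)⁻¹,
          (mem_normalizer_iff.mp (g⁻¹).2 _).mp (inv_mem hu), ?_⟩
        have h1 := congrArg (Subgroup.map
          (MulAut.conj (((g⁻¹ : N) : G) * u⁻¹)).toMonoidHom) hg
        rw [map_conj_map_conj, map_conj_map_conj] at h1
        rw [Subgroup.coe_inv] at h1 ⊢
        simp only [inv_inv, inv_mul_cancel_right] at h1 ⊢
        exact h1.symm }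
  have hfix : ∀ M ∈ Ω, ∀ w ∈ sSup Ω, M.map (MulAut.conj w).toMonoidHom = M :=
    fun M hM w hw => mem_normalizer_iff_map_conj_eq.mp (hΩn M hM hw)
  have hWH : K.subgroupOf N ≤ H := fun w hw => by
    show L.map _ ∈ orb
    rw [show ((w : N) : G) = N.subtype w from rfl] 
    rw [hfix L hL (N.subtype w) (sSup_le_sSup horb hw)]
    exact hLorb
  have hEH : layerPreimage p N ≤ H := by
    have hOH : Cfsg.pPrimeCore p N ≤ H := fun y hy =>
      step y (commutator_le_left (Cfsg.pPrimeCore p N) ⊤ (commutator_mem_commutator hy (mem_top _)))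
    haveI hall : ((sSup Ω).subgroupOf N).Normal :=
      haveI : (sSup Ω).Normal := normalizer_eq_top_iff.mp (top_le_iff.mp
        (CfsgLib.Structure.le_normalizer_sSup fun g _ M hM => hconj g M hM))
      inferInstance
    have hWsub : (K.subgroupOf N).IsSubnormal := by
      refine IsSubnormal.step _ ((sSup Ω).subgroupOf N) (comap_mono (sSup_le_sSup horb))
        hall.isSubnormal ((normal_subgroupOf_iff_le_normalizer (comap_mono (sSup_le_sSup horb))).mpr ?_)
      refine le_trans (comap_mono ?_) (le_normalizer_comap _)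
      exact CfsgLib.Structure.le_normalizer_sSup fun w hw M hM => by
        rw [hfix M (horb hM) w hw]
        exact hM
    set π := QuotientGroup.mk' (Cfsg.pPrimeCore p N)
    suffices hlay : Cfsg.layer (N ⧸ Cfsg.pPrimeCore p N) ≤ H.map π by
      refine (comap_mono hlay).trans ?_
      rw [comap_map_eq, QuotientGroup.ker_mk']
      exact sup_le le_rfl hOH
    refine sSup_le fun C hC => ?_
    obtain h | h := le_or_commutator_eq_bot hC (hWsub.map (QuotientGroup.mk'_surjective _))
    · exact h.trans (map_mono hWH)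
    · intro c hc
      obtain ⟨g, rfl⟩ := QuotientGroup.mk'_surjective (Cfsg.pPrimeCore p N) c
      refine mem_map_of_mem π (step g ?_)
      rw [← QuotientGroup.ker_mk' (Cfsg.pPrimeCore p N), MonoidHom.mem_ker, map_commutatorElement,
        commutatorElement_eq_one_iff_mul_comm]
      exact commute_of_commutator_eq_bot h hc (mem_map_of_mem π hsK)
  -- inside the orbit
  set E := (layerPreimage p N).map N.subtype
  have hEP : ∀ x ∈ E, ∀ u ∈ P, x * u = u * x := by
    rintro _ ⟨x, hx, rfl⟩ u hu
    haveI : (P.subgroupOf N).Normal := normal_subgroupOf_of_le_normalizer le_rfl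
    exact (congrArg Subtype.val (mem_centralizer_iff.mp
      (layerPreimage_le_centralizer (p := p) (V := P.subgroupOf N) (hP.comap_subtype (K := N)) hx)
      ⟨u, le_normalizer hu⟩ hu)).symm
  have hEorb : ∀ x ∈ E, L.map (MulAut.conj x).toMonoidHom ∈ orb := by
    rintro _ ⟨x, hx, rfl⟩
    exact hEH hx
  suffices h : E ≤ normalizer (L : Set G) ⊓ E from h.trans inf_le_left
  refine le_of_forall_coprime_mem (p := p) (O := (Cfsg.pPrimeCore p N).map N.subtype) ?_
    (map_mono pPrimeCore_le_layerPreimage) ?_ ?_ ?_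
  · rw [← map_commutator, ← Subgroup.map_sup]
    exact map_mono layerPreimage_le_commutator_sup
  · rw [card_map_of_injective N.subtype_injective]
    exact CfsgLib.PCore.pPrimeCore_coprime
  · rw [le_normalizer_iff]
    intro x hx y hy
    obtain ⟨hyL, hyE⟩ := mem_inf.mp hy
    refine mem_inf.mpr ⟨?_, mul_mem (mul_mem hx hyE) (inv_mem hx)⟩
    obtain ⟨u, hu, hux⟩ := hEorb _ (inv_mem hx)
    have hyL' : L.map (MulAut.conj y).toMonoidHom = L := mem_normalizer_iff_map_conj_eq.mp hyL
    refine mem_normalizer_iff_map_conj_eq.mpr ?_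
    show L.map (MulAut.conj (x * y * x⁻¹)).toMonoidHom = L
    rw [← map_conj_map_conj, ← hux, map_conj_map_conj, mul_assoc, hEP y hyE u hu, ← mul_assoc,
      ← map_conj_map_conj, hyL', ← map_conj_map_conj, hux, map_conj_map_conj, mul_inv_cancel,
      map_conj_one]
  · intro x hx hord
    refine mem_inf.mpr ⟨?_, hx⟩
    obtain ⟨u, hu, hux⟩ := hEorb x hx
    refine mem_normalizer_iff_map_conj_eq.mpr ?_
    show L.map (MulAut.conj x).toMonoidHom = L
    have h := map_conj_pow_eq (hEP x hx u hu) hux.symm (orderOf x)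
    rw [pow_orderOf_eq_one, map_conj_one] at h
    have hu1 : u ^ orderOf x ∈ normalizer (L : Set G) := mem_normalizer_iff_map_conj_eq.mpr h.symm
    obtain ⟨a, ha⟩ := hP ⟨u, hu⟩
    have hua : u ^ p ^ a = 1 := by simpa using congrArg Subtype.val ha
    have hcop : (orderOf x).Coprime (orderOf u) :=
      (hord.pow_right a).coprime_dvd_right (orderOf_dvd_of_pow_eq_one hua)
    obtain ⟨m, hm⟩ := exists_pow_eq_self_of_coprime hcop
    have hun : u ∈ normalizer (L : Set G) := hm ▸ pow_mem hu1 m
    rw [← hux]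
    exact mem_normalizer_iff_map_conj_eq.mp hun

/-! ### Components of a group with trivial `p'`-core -/

theorem fitting_eq_pCore_of_pPrimeCore_eq_bot [hp : Fact p.Prime] (hO : Cfsg.pPrimeCore p G = ⊥) :
    Cfsg.fittingSubgroup G = Cfsg.pCore p G := by
  refine le_antisymm ?_ (CfsgLib.Fitting.pCore_le_fitting hp.out)
  rw [CfsgLib.Fitting.fitting_eq_iSup_pCore]
  refine iSup_le fun q => ?_
  obtain hq | hq := eq_or_ne (q : ℕ) p
  · rw [hq]
  refine le_trans ?_ bot_le
  rw [← hO]
  refine CfsgLib.PCore.le_pPrimeCore inferInstance ?_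
  haveI : Fact (q : ℕ).Prime := ⟨Nat.prime_of_mem_primeFactors q.2⟩
  obtain ⟨n, hn⟩ := IsPGroup.iff_card.mp (CfsgLib.PCore.pCore_isPGroup (p := (q : ℕ)) (G := G))
  rw [hn]
  exact ((Nat.coprime_primes (Nat.prime_of_mem_primeFactors q.2) hp.out).mpr hq).pow_left n

theorem center_layer_le_pCore [hp : Fact p.Prime] (hO : Cfsg.pPrimeCore p G = ⊥) :
    Cfsg.layer G ⊓ centralizer (Cfsg.layer G : Set G) ≤ Cfsg.pCore p G := by
  rw [← fitting_eq_pCore_of_pPrimeCore_eq_bot hO]
  refine abelian_normal_le_fitting_aux ?_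
  exact inf_le_right.trans (centralizer_le (SetLike.coe_subset_coe.mpr inf_le_left))
where
  abelian_normal_le_fitting_aux {N : Subgroup G} [N.Normal] (h : N ≤ centralizer (N : Set G)) :
      N ≤ Cfsg.fittingSubgroup G := by
    open scoped IsMulCommutative in
    haveI : IsMulCommutative N := le_centralizer_iff_isMulCommutative.mp h
    exact CfsgLib.Fitting.le_fitting inferInstance inferInstance

/-- A proper subgroup of a component normalized by it has index divisible by `p`. -/
theorem dvd_relIndex_component [hp : Fact p.Prime] {L Z : Subgroup G} (hL : Cfsg.IsComponent L)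
    (hdvd : p ∣ Nat.card L) (hle : Z ≤ L) (hnorm : L ≤ normalizer (Z : Set G)) (hne : Z ≠ L) :
    p ∣ Z.relIndex L := by
  by_contra h
  refine hne (le_antisymm hle ((pElemClosure_component hL.2 hdvd).ge.trans
    (pElemClosure_le_of_coprime ?_ (CfsgLib.PCore.coprime_of_not_dvd_card h))))
  exact IsSubnormal.step _ _ hle hL.1 ((normal_subgroupOf_iff_le_normalizer hle).mpr hnorm)

/-- With trivial `p'`-core, the layer preimage of a `p`-local subgroup inside a normalizer is inside
that of the bigger group. -/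
theorem map_layerPreimage_normalizer_le_layerPreimage [Fact p.Prime] {Q : Subgroup G}
    (hQ : Q ≤ Cfsg.pCore p G) :
    (layerPreimage p (normalizer (Q : Set G))).map (normalizer (Q : Set G)).subtype ≤
      layerPreimage p G := by
  set N := normalizer (Q : Set G)
  let π := QuotientGroup.mk' (Cfsg.pPrimeCore p G)
  have hQp : IsPGroup p Q := CfsgLib.PCore.pCore_isPGroup.to_le hQ
  set N' := normalizer ((Q.map π : Subgroup (G ⧸ Cfsg.pPrimeCore p G)) :
    Set (G ⧸ Cfsg.pPrimeCore p G))
  have hN : N.map π = N' := map_normalizer_quotient CfsgLib.PCore.pPrimeCore_coprime hQp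
  have hQ' : Q.map π ≤ Cfsg.pCore p (G ⧸ Cfsg.pPrimeCore p G) :=
    (map_mono hQ).trans (CfsgLib.PCore.map_pCore_le π (QuotientGroup.mk'_surjective _))
  let f : N →* N' := (MulEquiv.subgroupCongr hN).toMonoidHom.comp (π.subgroupMap N)
  have hf : Function.Surjective f :=
    (MulEquiv.subgroupCongr hN).surjective.comp (π.subgroupMap_surjective N)
  have hO' : Cfsg.pPrimeCore p N' = ⊥ := by
    have hR : Cfsg.pCore p (G ⧸ Cfsg.pPrimeCore p G) = _ := rfl
    set R := Cfsg.pCore p (G ⧸ Cfsg.pPrimeCore p G)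
    have hC : centralizer (R : Set (G ⧸ Cfsg.pPrimeCore p G)) ≤ N' :=
      (centralizer_le (SetLike.coe_subset_coe.mpr hQ')).trans (centralizer_le_normalizer _)
    have hle : (Cfsg.pPrimeCore p N').map N'.subtype ≤
        centralizer (R : Set (G ⧸ Cfsg.pPrimeCore p G)) := by
      rintro _ ⟨y, hy, rfl⟩
      exact mem_centralizer_pCore_of_local (hQp.map π)
        (CfsgLib.PCore.pPrimeCore_coprime.coprime_dvd_left (orderOf_dvd_natCard _ hy))
        (CfsgLib.PCore.pPrimeCore_le_centralizer_pCore hy)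
    have hsub := isSubnormal_map_subtype_of_le (inferInstance : (centralizer (R : Set
      (G ⧸ Cfsg.pPrimeCore p G))).Normal).isSubnormal hC
      (inferInstance : (Cfsg.pPrimeCore p N').Normal).isSubnormal hle
    have := CfsgLib.PCore.le_pPrimeCore_of_isSubnormal hsub (p := p) (by
      rw [card_map_of_injective N'.subtype_injective]
      exact CfsgLib.PCore.pPrimeCore_coprime)
    rw [CfsgLib.PCore.pPrimeCore_quotient_pPrimeCore, le_bot_iff,
      map_eq_bot_iff_of_injective _ N'.subtype_injective] at this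
    exact this
  have hlay : (layerPreimage p N').map N'.subtype ≤
      Cfsg.layer (G ⧸ Cfsg.pPrimeCore p G) := by
    rw [← map_layer_normalizer_eq hQ']
    refine map_mono fun y hy => ?_
    let e : (N' ⧸ Cfsg.pPrimeCore p N') ≃* N' :=
      (QuotientGroup.quotientMulEquivOfEq hO').trans QuotientGroup.quotientBot
    rw [← map_layer_equiv e]
    exact ⟨_, hy, rfl⟩
  rintro _ ⟨x, hx, rfl⟩
  exact hlay ⟨_, map_layerPreimage_le hf ⟨x, hx, rfl⟩, rfl⟩
where
  isSubnormal_map_subtype_of_le {X : Type _} [Group X] {C M : Subgroup X} (hC : C.IsSubnormal)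
      (hCM : C ≤ M) {K : Subgroup M} (hK : K.IsSubnormal) (hle : K.map M.subtype ≤ C) :
      (K.map M.subtype).IsSubnormal := by
    refine IsSubnormal.trans hle ?_ hC
    rw [subgroupOf, show C.subtype = M.subtype.comp (inclusion hCM) from rfl, ← comap_comap,
      comap_map_eq_self_of_injective M.subtype_injective]
    exact hK.comap _

/-- In a group with trivial `p'`-core the layer preimage of a p-local subgroup normalizes every
component. -/
theorem map_layerPreimage_normalizer_le_normalizer [hp : Fact p.Prime]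
    (hO : Cfsg.pPrimeCore p G = ⊥) {P : Subgroup G} (hP : IsPGroup p P) {L : Subgroup G}
    (hL : Cfsg.IsComponent L) :
    (layerPreimage p (normalizer (P : Set G))).map (normalizer (P : Set G)).subtype ≤
      normalizer (L : Set G) := by
  set Z := Cfsg.layer G ⊓ centralizer (Cfsg.layer G : Set G)
  let π := QuotientGroup.mk' Z
  have hZC : ∀ {M : Subgroup G}, Cfsg.IsComponent M → Z ≤ centralizer (M : Set G) := fun hM =>
    inf_le_right.trans (centralizer_le (SetLike.coe_subset_coe.mpr (component_le_layer hM)))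
  have hZn : ∀ {M : Subgroup G}, Cfsg.IsComponent M → M ⊓ Z ≠ M := fun {M} hM h =>
    component_commutator_ne_bot hM (le_bot_iff.mp ((commutator_mono le_rfl
      (inf_eq_left.mp h)).trans
      (commutator_eq_bot_iff_le_centralizer.mpr (le_centralizer_iff.mp (hZC hM))).le))
  let Ω : Set (Subgroup (G ⧸ Z)) := {M | ∃ C : Subgroup G, Cfsg.IsComponent C ∧ C.map π = M}
  have hconj : ∀ g : G ⧸ Z, ∀ M ∈ Ω, M.map (MulAut.conj g).toMonoidHom ∈ Ω := by
    rintro g _ ⟨C, hC, rfl⟩
    obtain ⟨g, rfl⟩ := QuotientGroup.mk'_surjective Z g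
    refine ⟨_, isComponent_conj g hC, ?_⟩
    rw [map_map, map_map]
    congr 1
  have hcomm : ∀ M ∈ Ω, ∀ M' ∈ Ω, M ≠ M' → ⁅M, M'⁆ = ⊥ := by
    rintro _ ⟨C, hC, rfl⟩ _ ⟨D, hD, rfl⟩ hne
    rw [← map_commutator, commutator_components_eq_bot hC hD (fun h => hne (h ▸ rfl)), Subgroup.map_bot]
  have hcen : ∀ M ∈ Ω, M ⊓ centralizer (M : Set (G ⧸ Z)) = ⊥ := by
    rintro _ ⟨C, hC, rfl⟩
    rw [eq_bot_iff]
    rintro _ ⟨⟨l, hl, rfl⟩, hc⟩
    rw [mem_bot, QuotientGroup.mk'_apply, QuotientGroup.eq_one_iff]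
    have h1 : ⁅C, zpowers l⁆ ≤ Z := by
      rw [← QuotientGroup.ker_mk' Z, ← Subgroup.map_eq_bot_iff, map_commutator,
        commutator_eq_bot_iff_le_centralizer, le_centralizer_iff, map_le_iff_le_comap, zpowers_le]
      exact hc
    have h2 : ⁅C, zpowers l⁆ = ⊥ := commutator_eq_bot_of_perfect (component_commutator_self hC)
      (commutator_eq_bot_iff_le_centralizer.mpr (h1.trans (hZC hC)))
    refine mem_inf.mpr ⟨component_le_layer hC hl, ?_⟩
    rw [← zpowers_le, le_centralizer_iff]
    refine sSup_le fun D hD => ?_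
    obtain rfl | hne := eq_or_ne D C
    · exact le_centralizer_of_commutator_eq_bot h2
    · exact (le_centralizer_of_commutator_eq_bot (commutator_components_eq_bot hD hC hne)).trans
        (centralizer_le (SetLike.coe_subset_coe.mpr (zpowers_le.mpr hl)))
  have hdvd : ∀ M ∈ Ω, p ∣ Nat.card M := by
    rintro _ ⟨C, hC, rfl⟩
    rw [← relIndex_ker, QuotientGroup.ker_mk', ← inf_relIndex_right, inf_comm]
    refine dvd_relIndex_component hC (dvd_card_component hO hC) inf_le_left ?_ (hZn hC)
    exact fun x hx => inf_normalizer_le_normalizer_inf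
      ⟨le_normalizer hx, le_normalizer_of_normal hx⟩
  -- from `N_G(P)` to `N_{G/Z}(P Z/Z)`
  set N := normalizer (P : Set G)
  set N1 := normalizer ((P ⊔ Z : Subgroup G) : Set G)
  have hPZ : IsPGroup p ↥(P ⊔ Z) :=
    hP.to_sup_of_normal_right (CfsgLib.PCore.pCore_isPGroup.to_le (center_layer_le_pCore hO))
  have hNN1 : N ≤ N1 :=
    CfsgLib.Structure.le_normalizer_sup_of_le le_rfl le_normalizer_of_normal
  have hN1 : N1.map π = normalizer ((P.map π : Subgroup (G ⧸ Z)) : Set (G ⧸ Z)) := by
    have h1 : (normalizer ((P.map π : Subgroup (G ⧸ Z)) : Set (G ⧸ Z))).comap π = N1 := by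
      rw [comap_normalizer_eq_of_surjective _ (QuotientGroup.mk'_surjective Z), comap_map_eq,
        QuotientGroup.ker_mk']
    rw [← h1, map_comap_eq_self_of_surjective (QuotientGroup.mk'_surjective Z)]
  let f : N1 →* ↥(normalizer ((P.map π : Subgroup (G ⧸ Z)) : Set (G ⧸ Z))) :=
    (MulEquiv.subgroupCongr hN1).toMonoidHom.comp (π.subgroupMap N1)
  have hf : Function.Surjective f :=
    (MulEquiv.subgroupCongr hN1).surjective.comp (π.subgroupMap_surjective N1)
  set M := normalizer (((P.subgroupOf N1) : Subgroup N1) : Set N1)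
  have hMN : M.map N1.subtype = N := by
    refine le_antisymm ?_ fun x hx => ?_
    · refine (le_normalizer_map _).trans ?_
      rw [map_subgroupOf_eq_of_le (le_sup_left.trans le_normalizer)]
    · refine ⟨⟨x, hNN1 hx⟩, ?_, rfl⟩
      exact le_normalizer_comap N1.subtype hx
  have hQ : P.subgroupOf N1 ≤ Cfsg.pCore p N1 :=
    (comap_mono (le_sup_left : P ≤ P ⊔ Z)).trans (CfsgLib.PCore.le_pCore
      (normal_subgroupOf_of_le_normalizer le_rfl) hPZ.comap_subtype)
  let e : M ≃* N := (M.equivMapOfInjective N1.subtype N1.subtype_injective).trans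
    (MulEquiv.subgroupCongr hMN)
  rintro _ ⟨x, hx, rfl⟩
  obtain ⟨y, rfl⟩ := e.surjective x
  have hy : y ∈ layerPreimage p M := by
    have h := map_layerPreimage_le (p := p) (f := e.symm.toMonoidHom) e.symm.surjective
      (mem_map_of_mem _ hx)
    simpa using h
  have hy1 : (y : N1) ∈ layerPreimage p N1 :=
    map_layerPreimage_normalizer_le_layerPreimage hQ ⟨y, hy, rfl⟩
  have hfix := layerPreimage_le_normalizer_of_family hconj hcomm hcen hdvd (hP.map π)
    (L := L.map π) ⟨L, hL, rfl⟩ ⟨_, map_layerPreimage_le hf ⟨_, hy1, rfl⟩, rfl⟩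
  rw [mem_normalizer_iff_map_conj_eq] at hfix ⊢
  set g : G := N.subtype (e y)
  have hg : π g = ((f (y : N1) : ↥(normalizer ((P.map π : Subgroup (G ⧸ Z)) : Set (G ⧸ Z)))) :
      G ⧸ Z) := rfl
  by_contra hne
  have hcomm' := commutator_components_eq_bot (isComponent_conj g hL) hL hne
  have himg : (L.map (MulAut.conj g).toMonoidHom).map π = L.map π := by
    refine Eq.trans ?_ hfix
    rw [map_map, map_map]
    congr 1
  have h0 : ⁅L.map π, L.map π⁆ = ⊥ := by
    conv_lhs => arg 1; rw [← himg]
    rw [← map_commutator, hcomm', Subgroup.map_bot]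
  rw [← map_commutator, component_commutator_self hL, Subgroup.map_eq_bot_iff,
    QuotientGroup.ker_mk'] at h0
  exact hZn hL (inf_eq_left.mpr h0)

end CfsgLib.Components
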