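import Cfsg.Agent.Lib.Components.PLayerConj
import Cfsg.Prelude.Def_Balance
import Mathlib.Tactic.Ring

/-!
# The extended 2-layer
-/

set_option autoImplicit false

namespace CfsgLib.Components39

open Subgroup CfsgLib.Components

variable {G : Type*} [Group G] [Finite G]

omit [Finite G] in
theorem normalizer_le_normalizer_centralizer' (L : Subgroup G) :
    normalizer (L : Set G) ≤ normalizer (centralizer (L : Set G) : Set G) := by
  refine le_normalizer_iff.mpr fun g hg c hc => ?_
  rw [mem_centralizer_iff]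
  intro y hy
  have h2 := mem_centralizer_iff.mp hc _ ((mem_normalizer_iff''.mp hg y).mp hy)
  calc y * (g * c * g⁻¹) = g * ((g⁻¹ * y * g) * c) * g⁻¹ := by group
    _ = g * (c * (g⁻¹ * y * g)) * g⁻¹ := by rw [h2]
    _ = g * c * g⁻¹ * y := by group

/-- `O(C_G(S))` as a subgroup of `G`. -/
def coreCent (S : Subgroup G) : Subgroup G :=
  (Cfsg.oddCore ↥(centralizer (S : Set G))).map (centralizer (S : Set G)).subtype

theorem coreCent_le (S : Subgroup G) : coreCent S ≤ centralizer (S : Set G) := map_subtype_le _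

theorem coreCent_coprime (S : Subgroup G) : (Nat.card ↥(coreCent S)).Coprime 2 :=
  Nat.Coprime.coprime_dvd_left (card_map_dvd _ _) CfsgLib.PCore.pPrimeCore_coprime

theorem map_coreCent (e : G ≃* G) (S : Subgroup G) :
    (coreCent S).map e.toMonoidHom = coreCent (S.map e.toMonoidHom) := by
  have hC : (centralizer (S : Set G)).map e.toMonoidHom =
      centralizer ((S.map e.toMonoidHom : Subgroup G) : Set G) := by
    ext y
    rw [mem_map_equiv, mem_centralizer_iff, mem_centralizer_iff]
    constructor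
    · rintro h _ ⟨s, hs, rfl⟩
      have := congrArg e (h s hs)
      simpa using this
    · intro h s hs
      have := congrArg e.symm (h (e s) ⟨s, hs, rfl⟩)
      simpa using this
  let e' : ↥(centralizer (S : Set G)) ≃* ↥(centralizer ((S.map e.toMonoidHom : Subgroup G) : Set G)) :=
    ((centralizer (S : Set G)).equivMapOfInjective _ e.injective).trans (MulEquiv.subgroupCongr hC)
  unfold coreCent Cfsg.oddCore
  rw [← CfsgLib.PCore.map_pPrimeCore_equiv e', map_map, map_map]
  rfl

theorem normalizer_le_normalizer_coreCent (S : Subgroup G) :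
    normalizer (S : Set G) ≤ normalizer (coreCent S : Set G) := by
  intro g hg
  rw [mem_normalizer_iff_map_conj_eq] at hg ⊢
  show (coreCent S).map (MulAut.conj g).toMonoidHom = coreCent S
  rw [map_coreCent]
  exact congrArg coreCent hg

/-- `L(G) O_{2',2}(G)`, the subgroup whose Sylow 2-subgroups define the extended 2-layer. -/
abbrev twoLayerTop (G : Type*) [Group G] : Subgroup G := Cfsg.pLayer 2 G ⊔ Cfsg.pPrimePCore 2 G

variable (T : Sylow 2 ↥(twoLayerTop G))

/-- The Sylow subgroup `T` seen inside `G`. -/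
abbrev sylowIn : Subgroup G := (T : Subgroup ↥(twoLayerTop G)).map (twoLayerTop G).subtype

/-- The candidate `L(G) O(G) O(C_G(T))`. -/
abbrev candidate : Subgroup G := Cfsg.pLayer 2 G ⊔ Cfsg.oddCore G ⊔ coreCent (sylowIn T)

theorem twoLayerTop_normal : (twoLayerTop G).Normal :=
  haveI : Fact (Nat.Prime 2) := ⟨Nat.prime_two⟩
  haveI := pLayer_normal_inst (G := G) (p := 2)
  haveI : (Cfsg.pPrimePCore 2 G).Normal := (Cfsg.pCore_normal 2 _).comap _
  Subgroup.sup_normal _ _

theorem twoLayerTop_eq :
    twoLayerTop G = Cfsg.pLayer 2 G ⊔ Cfsg.oddCore G ⊔ sylowIn T := by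
  haveI : Fact (Nat.Prime 2) := ⟨Nat.prime_two⟩
  haveI := pLayer_normal_inst (G := G) (p := 2)
  set N : Subgroup G := Cfsg.pLayer 2 G ⊔ Cfsg.oddCore G with hN
  have hNle : N ≤ twoLayerTop G := sup_le_sup_left pPrimeCore_le_pPrimePCore _
  have hTle : sylowIn T ≤ twoLayerTop G := map_subtype_le _
  refine le_antisymm ?_ (sup_le hNle hTle)
  rw [← relIndex_eq_one]
  -- the index is odd
  have h1 : ¬ 2 ∣ (N ⊔ sylowIn T).relIndex (twoLayerTop G) := by
    intro h
    apply T.not_dvd_index
    have h' : (sylowIn T).relIndex (twoLayerTop G) = (T : Subgroup ↥(twoLayerTop G)).index := by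
      rw [relIndex, subgroupOf, comap_map_eq_self_of_injective (subtype_injective _)]
    exact h'.subst (h.trans (relIndex_dvd_of_le_left (twoLayerTop G) le_sup_right))
  -- and a power of two
  have h2 : N.relIndex (twoLayerTop G) ∣ Nat.card (Cfsg.pCore 2 (G ⧸ Cfsg.pPrimeCore 2 G)) := by
    have e : twoLayerTop G = Cfsg.pPrimePCore 2 G ⊔ N := by
      rw [hN]
      refine le_antisymm (sup_le ?_ le_sup_left) (sup_le le_sup_right ?_)
      · exact le_sup_of_le_right le_sup_left
      · exact sup_le_sup_left pPrimeCore_le_pPrimePCore _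
    haveI : N.Normal := Subgroup.sup_normal _ _
    rw [e, relIndex_sup_right, ← map_pPrimePCore]
    refine dvd_trans (relIndex_dvd_of_le_left _ (le_sup_right : Cfsg.oddCore G ≤ N)) ?_
    have h3 := relIndex_ker (QuotientGroup.mk' (Cfsg.pPrimeCore 2 G)) (K := Cfsg.pPrimePCore 2 G)
    rw [QuotientGroup.ker_mk'] at h3
    exact dvd_of_eq h3
  obtain ⟨k, hk⟩ := IsPGroup.iff_card.mp
    (CfsgLib.PCore.pCore_isPGroup (p := 2) (G := G ⧸ Cfsg.pPrimeCore 2 G))
  obtain ⟨j, -, hj⟩ := (Nat.dvd_prime_pow Nat.prime_two).mp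
    (hk ▸ (relIndex_dvd_of_le_left (twoLayerTop G) (le_sup_left : N ≤ N ⊔ sylowIn T)).trans h2)
  rcases j with _ | j
  · simpa using hj
  · exact absurd (hj ▸ dvd_pow_self 2 (Nat.succ_ne_zero j)) h1

theorem twoLayerTop_le_normalizer : twoLayerTop G ≤ normalizer (candidate T : Set G) := by
  haveI : Fact (Nat.Prime 2) := ⟨Nat.prime_two⟩
  haveI := pLayer_normal_inst (G := G) (p := 2)
  rw [twoLayerTop_eq T]
  refine sup_le ((le_sup_left (b := coreCent (sylowIn T))).trans le_normalizer) ?_
  refine CfsgLib.Structure.le_normalizer_sup_of_le le_normalizer_of_normal ?_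
  exact (le_centralizer_iff.mp (coreCent_le _)).trans (centralizer_le_normalizer _)

theorem sylowIn_smul (S : Sylow 2 ↥(twoLayerTop G)) :
    ∃ m ∈ twoLayerTop G, sylowIn S = (sylowIn T).map (MulAut.conj m).toMonoidHom := by
  haveI : Fact (Nat.Prime 2) := ⟨Nat.prime_two⟩
  obtain ⟨m, hm⟩ := MulAction.exists_smul_eq ↥(twoLayerTop G) T S
  refine ⟨m, m.2, ?_⟩
  show (S : Subgroup ↥(twoLayerTop G)).map (twoLayerTop G).subtype =
    ((T : Subgroup ↥(twoLayerTop G)).map (twoLayerTop G).subtype).map (MulAut.conj (m : G)).toMonoidHom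
  rw [← hm, Sylow.coe_subgroup_smul, pointwise_smul_def, Subgroup.map_map]
  exact map_map _ _ _

theorem coreCent_le_candidate (S : Sylow 2 ↥(twoLayerTop G)) :
    coreCent (sylowIn S) ≤ candidate T := by
  obtain ⟨m, hm, he⟩ := sylowIn_smul T S
  rw [he, ← map_coreCent]
  refine (map_mono (le_sup_right (a := Cfsg.pLayer 2 G ⊔ Cfsg.oddCore G))).trans ?_
  exact le_of_eq (mem_normalizer_iff_map_conj_eq.mp (twoLayerTop_le_normalizer T hm))

theorem extendedTwoLayer_eq : Cfsg.extendedTwoLayer G = candidate T :=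
  le_antisymm (sup_le le_sup_left (iSup_le fun S => coreCent_le_candidate T S))
    (sup_le le_sup_left (le_sup_of_le_right (le_iSup_of_le T le_rfl)))

theorem candidate_normal : (candidate T).Normal := by
  haveI : Fact (Nat.Prime 2) := ⟨Nat.prime_two⟩
  haveI := pLayer_normal_inst (G := G) (p := 2)
  haveI := twoLayerTop_normal (G := G)
  rw [← normalizer_eq_top_iff, eq_top_iff,
    ← Sylow.normalizer_sup_eq_top (N := twoLayerTop G) T]
  refine sup_le ?_ (twoLayerTop_le_normalizer T)
  exact CfsgLib.Structure.le_normalizer_sup_of_le le_normalizer_of_normal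
    (normalizer_le_normalizer_coreCent _)

theorem twoLayerTop_le_normalizer_component {K : Subgroup G} (hK : Cfsg.IsPComponent 2 K) :
    twoLayerTop G ≤ normalizer (K : Set G) :=
  haveI : Fact (Nat.Prime 2) := ⟨Nat.prime_two⟩
  sup_le (pLayer_le_normalizer hK) (pPrimePCore_le_normalizer hK)

/-- Whatever centralizes a Sylow 2-subgroup of `L O_{2',2}` normalizes every 2-component. -/
theorem centralizer_sylowIn_le_normalizer {K : Subgroup G} (hK : Cfsg.IsPComponent 2 K) :
    centralizer (sylowIn T : Set G) ≤ normalizer (K : Set G) := by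
  haveI : Fact (Nat.Prime 2) := ⟨Nat.prime_two⟩
  intro c hc
  rw [mem_normalizer_iff_map_conj_eq]
  by_contra hne
  set K' := K.map (MulAut.conj c).toMonoidHom with hK'
  have hK'c : Cfsg.IsPComponent 2 K' := isPComponent_conj c hK
  set q := QuotientGroup.mk' (Cfsg.pPrimeCore 2 G)
  have hKle : K ≤ twoLayerTop G := (pComponent_le_pLayer hK).trans le_sup_left
  haveI hKn : (K.subgroupOf (twoLayerTop G)).Normal :=
    (normal_subgroupOf_iff_le_normalizer hKle).mpr (twoLayerTop_le_normalizer_component hK)
  set A := sylowIn T ⊓ K with hA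
  have hcomm : ⁅K.map q, K'.map q⁆ = ⊥ :=
    commutator_components_eq_bot hK.2.1 hK'c.2.1
      fun h => hne (pComponent_eq_of_map_eq hK'c hK h.symm)
  have hAc : A.map q ≤ centralizer (K.map q : Set (G ⧸ Cfsg.pPrimeCore 2 G)) := by
    refine le_trans ?_ (le_centralizer_of_commutator_eq_bot (H := K'.map q) (K := K.map q)
      (by rw [commutator_comm]; exact hcomm))
    refine map_mono fun a ha => ⟨a, ha.2, ?_⟩
    simp [MulAut.conj_apply, ← mem_centralizer_iff.mp hc a ha.1]
  -- `A` has odd index in `K`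
  have hidx : (A.relIndex K).Coprime 2 := by
    refine (Nat.prime_two.coprime_iff_not_dvd.mpr ?_).symm
    rw [hA, inf_relIndex_right]
    intro h
    apply T.not_dvd_index
    have h1 : (sylowIn T).relIndex K = (T : Subgroup ↥(twoLayerTop G)).relIndex
        (K.subgroupOf (twoLayerTop G)) := by
      rw [← relIndex_subgroupOf hKle, subgroupOf, comap_map_eq_self_of_injective (subtype_injective _)]
    have h2 : (T : Subgroup ↥(twoLayerTop G)).relIndex (K.subgroupOf (twoLayerTop G)) ∣
        (T : Subgroup ↥(twoLayerTop G)).index := by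
      set KK := K.subgroupOf (twoLayerTop G)
      set TT := (T : Subgroup ↥(twoLayerTop G))
      obtain ⟨m, hm⟩ := relIndex_dvd_index_of_normal KK TT
      refine ⟨m, Nat.eq_of_mul_eq_mul_left (Nat.pos_of_ne_zero
        (Subgroup.index_ne_zero_of_finite : (KK.subgroupOf TT).index ≠ 0)) ?_⟩
      have e1 := relIndex_mul_index (inf_le_right : TT ⊓ KK ≤ KK)
      have e2 := relIndex_mul_index (inf_le_left : TT ⊓ KK ≤ TT)
      rw [inf_relIndex_right, hm] at e1
      rw [inf_relIndex_left] at e2
      show KK.relIndex TT * TT.index = KK.relIndex TT * (TT.relIndex KK * m)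
      rw [e2, ← e1]
      ring
    exact (h1 ▸ h).trans h2
  apply component_commutator_ne_bot hK.2.1
  set Z := K ⊓ (centralizer (K.map q : Set (G ⧸ Cfsg.pPrimeCore 2 G))).comap q with hZ
  have hle : K ≤ Z := by
    refine (pComponent_le_pElemClosure hK).trans (pElemClosure_le_of_coprime ?_
      (Nat.Coprime.coprime_dvd_left (relIndex_dvd_of_le_left _
        (le_inf inf_le_right (map_le_iff_le_comap.mp hAc))) hidx))
    refine IsSubnormal.step _ _ inf_le_left hK.1 ?_
    rw [normal_subgroupOf_iff_le_normalizer inf_le_left]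
    refine le_trans (le_inf le_normalizer ?_) inf_normalizer_le_normalizer_inf
    refine le_trans ?_ (le_normalizer_comap q)
    exact (le_comap_map q K).trans
      (comap_mono (le_normalizer.trans (normalizer_le_normalizer_centralizer' _)))
  rw [commutator_eq_bot_iff_le_centralizer, map_le_iff_le_comap]
  exact hle.trans inf_le_right

theorem extendedTwoLayer_le_normalizer {K : Subgroup G} (hK : Cfsg.IsPComponent 2 K) :
    Cfsg.extendedTwoLayer G ≤ normalizer (K : Set G) := by
  haveI : Fact (Nat.Prime 2) := ⟨Nat.prime_two⟩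
  refine sup_le (sup_le (pLayer_le_normalizer hK)
    (pPrimeCore_le_pPrimePCore.trans (pPrimePCore_le_normalizer hK))) ?_
  exact iSup_le fun S => (coreCent_le _).trans (centralizer_sylowIn_le_normalizer S hK)

end CfsgLib.Components39
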