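import Cfsg.Agent.Lib.Components.ComponentAction
import Cfsg.Agent.Lib.Components.Local
import Cfsg.Agent.S1304

/-!
# Components and the odd core of the fixed points of an involutory automorphism
-/

set_option autoImplicit false

namespace CfsgLib.Components39

open Subgroup
open scoped commutatorElement

variable {X : Type*} [Group X] [Finite X]

/-- A 2-element lying in a subgroup of odd order is trivial. -/
theorem eq_one_of_pow_two_pow {N : Subgroup X} (hN : (Nat.card ↥N).Coprime 2) {x : X} (hx : x ∈ N)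
    {n : ℕ} (hn : x ^ 2 ^ n = 1) : x = 1 := by
  have h : orderOf x ∣ 1 := by
    have h1 := Nat.dvd_gcd (N.orderOf_dvd_natCard hx) (orderOf_dvd_of_pow_eq_one hn)
    rwa [(hN.pow_right n).gcd_eq_one] at h1
  exact orderOf_eq_one_iff.mp (Nat.dvd_one.mp h)

/-- An involutory automorphism fixes some nontrivial element of order two modulo `O_2` of each component,
when the odd core is trivial. -/
theorem exists_two_element_fixed_mod_pCore (hO : Cfsg.oddCore X = ⊥) (τ : X ≃* X)
    (hτ : ∀ x, τ (τ x) = x) {E : Subgroup X} (hE : Cfsg.IsComponent E)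
    (hEτ : ∀ x ∈ E, τ x ∈ E) :
    ∃ u ∈ E, (∃ n : ℕ, u ^ 2 ^ n = 1) ∧ u⁻¹ * τ u ∈ Cfsg.pCore 2 X ∧
      ∃ e ∈ E, u * e ≠ e * u := by
  classical
  haveI : Fintype X := Fintype.ofFinite X
  set Q := Cfsg.pCore 2 X with hQ
  haveI : Q.Normal := by infer_instance
  set π := QuotientGroup.mk' Q with hπ
  have hdvd : 2 ∣ Nat.card ↥E := by
    by_contra h
    refine CfsgLib.Components.component_ne_bot hE (le_bot_iff.mp ?_)
    rw [← hO]
    exact CfsgLib.PCore.le_pPrimeCore_of_isSubnormal hE.1 (CfsgLib.PCore.coprime_of_not_dvd_card h)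
  have hne : Q ⊓ E ≠ E := fun h => by
    haveI : Group.IsSolvable ↥E := by
      have h1 : IsPGroup 2 ↥E := (CfsgLib.PCore.pCore_isPGroup (p := 2) (G := X)).to_le (inf_eq_right.mp h)
      haveI := h1.isNilpotent
      infer_instance
    exact CfsgLib.Components.component_not_isSolvable hE inferInstance
  have hKdvd : 2 ∣ Nat.card ↥(E.map π) := by
    have h := CfsgLib.Components.dvd_relIndex_component (p := 2) hE hdvd
      (inf_le_right : Q ⊓ E ≤ E) (fun g hg => Subgroup.mem_normalizer_fintype (S := ((Q ⊓ E : Subgroup X) : Set X))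
        fun x hx => ⟨(inferInstance : Q.Normal).conj_mem x hx.1 g, E.mul_mem (E.mul_mem hg hx.2) (E.inv_mem hg)⟩) hne
    rw [inf_relIndex_right, ← relIndex_ker] at *
    rwa [QuotientGroup.ker_mk']
  let K : Subgroup (X ⧸ Q) := E.map π
  -- the inversion on the image has an even number of fixed points
  haveI : Fintype ↥K := Fintype.ofFinite _
  let f : Function.End ↥K := fun x => x⁻¹
  have hT := Equiv.Perm.card_fixedPoints_modEq (p := 2) (n := 1) (f := f) (funext fun x => inv_inv x)
  set T := {x : ↥K // x⁻¹ = x}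
  have hT2 : 2 ∣ Fintype.card T := by
    have h1 : Fintype.card T = Fintype.card f.fixedPoints := Fintype.card_congr (Equiv.refl _)
    rw [h1, Nat.dvd_iff_mod_eq_zero, ← hT, ← Nat.card_eq_fintype_card, ← Nat.dvd_iff_mod_eq_zero]
    exact hKdvd
  have hQτ : Q.map τ.toMonoidHom = Q := CfsgLib.PCore.map_pCore_equiv τ
  set τq : X ⧸ Q ≃* X ⧸ Q := QuotientGroup.congr Q Q τ hQτ with hτq
  have hτqmk : ∀ x : X, τq (π x) = π (τ x) := fun x => rfl
  have hτqK : ∀ x ∈ K, τq x ∈ K := by
    rintro _ ⟨x, hx, rfl⟩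
    exact ⟨τ x, hEτ x hx, (hτqmk x).symm⟩
  have hτq2 : ∀ x, τq (τq x) = x := fun x => by
    induction x using QuotientGroup.induction_on with
    | H x => exact congrArg (fun y => (QuotientGroup.mk y : X ⧸ Q)) (hτ x)
  let g : T → T := fun x => ⟨⟨τq x.1.1, hτqK _ x.1.2⟩, Subtype.ext (by
    show (τq x.1.1)⁻¹ = τq x.1.1
    rw [← map_inv]
    exact congrArg τq (congrArg Subtype.val x.2))⟩
  have hg : Function.Involutive g := fun x => Subtype.ext (Subtype.ext (hτq2 _))
  obtain ⟨b, hb, hb1⟩ := Equiv.Perm.exists_fixed_point_of_prime' (p := 2) (n := 1) hT2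
    (σ := hg.toPerm g) (Equiv.ext fun x => hg x) (a := ⟨1, inv_one⟩)
    (Subtype.ext (Subtype.ext (map_one τq)))
  obtain ⟨u, huE, hu⟩ := b.1.2
  have hu2 : u ^ 2 ∈ Q := by
    rw [← QuotientGroup.eq_one_iff]
    have h : (b.1 : X ⧸ Q)⁻¹ = (b.1 : X ⧸ Q) := congrArg Subtype.val b.2
    show π (u ^ 2) = 1
    rw [map_pow, hu, pow_two]
    nth_rewrite 1 [← h]
    exact inv_mul_cancel _
  obtain ⟨n, hn⟩ := CfsgLib.PCore.pCore_isPGroup (p := 2) (G := X) ⟨u ^ 2, hu2⟩
  have hn' : u ^ 2 ^ (n + 1) = 1 := by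
    rw [pow_succ', pow_mul]
    exact congrArg Subtype.val hn
  refine ⟨u, huE, ⟨n + 1, hn'⟩, ?_, ?_⟩
  · have h : τq (π u) = π u := by
      rw [hu]
      exact congrArg (fun y : T => (y.1 : X ⧸ Q)) hb
    rw [hτqmk] at h
    exact (QuotientGroup.eq).mp h.symm
  · by_contra hc
    push Not at hc
    refine hb1 (Subtype.ext (Subtype.ext ?_))
    show (b.1 : X ⧸ Q) = 1
    rw [← hu]
    refine (QuotientGroup.eq_one_iff u).mpr (CfsgLib.Components.center_layer_le_pCore hO
      ⟨CfsgLib.Components.component_le_layer hE huE, ?_⟩)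
    show u ∈ centralizer (Cfsg.layer X : Set X)
    rw [← zpowers_le, le_centralizer_iff]
    refine sSup_le fun L hL => le_centralizer_iff.mp (zpowers_le.mpr ?_)
    obtain rfl | hLE := eq_or_ne E L
    · exact mem_centralizer_iff.mpr fun x hx => (hc x hx).symm
    · exact CfsgLib.Components.le_centralizer_of_commutator_eq_bot
        (CfsgLib.Components.commutator_components_eq_bot hE hL hLE) huE

section Fixed

variable (τ : X ≃* X) {D N : Subgroup X}

/-- A component moved by the involution is centralized by the odd normal subgroup of the fixed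
points. -/
theorem commute_of_component_moved (hτ : ∀ x, τ (τ x) = x) (hD : ∀ x, x ∈ D ↔ τ x = x)
    (hND : N ≤ D) (hDN : D ≤ normalizer (N : Set X)) (hN : (Nat.card ↥N).Coprime 2)
    {E : Subgroup X} (hE : Cfsg.IsComponent E) (hne : E.map τ.toMonoidHom ≠ E)
    (hu : ∃ u ∈ E, (∃ n : ℕ, u ^ 2 ^ n = 1) ∧ ∃ e ∈ E, u * e ≠ e * u)
    {y : X} (hy : y ∈ N) : ∀ e ∈ E, y * e = e * y := by
  set F := E.map τ.toMonoidHom with hF
  have hFc : Cfsg.IsComponent F := CfsgLib.Components.isComponent_map_equiv τ hE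
  have hcomm : ∀ a ∈ E, ∀ b ∈ E, a * τ b = τ b * a := fun a ha b hb =>
    commutatorElement_eq_one_iff_mul_comm.mp ((eq_bot_iff_forall _).mp
      (CfsgLib.Components.commutator_components_eq_bot hE hFc hne.symm) _
      (commutator_mem_commutator ha ⟨b, hb, rfl⟩))
  let δ : ↥E →* X :=
    { toFun := fun a => a.1 * τ a.1
      map_one' := by simp
      map_mul' := fun a b => by
        show a.1 * b.1 * τ (a.1 * b.1) = a.1 * τ a.1 * (b.1 * τ b.1)
        rw [map_mul, mul_assoc a.1 (τ a.1), ← mul_assoc (τ a.1) b.1, ← hcomm b b.2 a a.2]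
        simp only [mul_assoc] }
  have hδ : ∀ a : ↥E, δ a = a.1 * τ a.1 := fun _ => rfl
  have hδD : ∀ a : ↥E, δ a ∈ D := fun a => by
    rw [hD, hδ, map_mul, hτ]
    exact (hcomm a a.2 a a.2).symm
  set K := δ.range
  have hKD : K ≤ D := by rintro _ ⟨a, rfl⟩; exact hδD a
  set S := E ⊔ F
  have hKS : K ≤ S := by
    rintro _ ⟨a, rfl⟩
    exact mul_mem_sup a.2 ⟨a.1, a.2, rfl⟩
  have hSl : S ≤ Cfsg.layer X :=
    sup_le (CfsgLib.Components.component_le_layer hE) (CfsgLib.Components.component_le_layer hFc)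
  have hSs : S.IsSubnormal := by
    refine IsSubnormal.step _ _ hSl (Subgroup.Normal.isSubnormal inferInstance)
      ((normal_subgroupOf_iff_le_normalizer hSl).mpr ?_)
    exact (le_inf (CfsgLib.Components.layer_le_normalizer_component hE)
      (CfsgLib.Components.layer_le_normalizer_component hFc)).trans
        (normalizer_inf_normalizer_le_normalizer_sup E F)
  have hSE : S ≤ normalizer (E : Set X) :=
    hSl.trans (CfsgLib.Components.layer_le_normalizer_component hE)
  have hKn : S ⊓ D ≤ normalizer (K : Set X) := by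
    intro x hx
    refine Subgroup.mem_normalizer_fintype (S := (K : Set X)) ?_
    rintro _ ⟨a, rfl⟩
    refine ⟨⟨x * a.1 * x⁻¹, (mem_normalizer_iff.mp (hSE hx.1) a.1).mp a.2⟩, ?_⟩
    rw [hδ, hδ]
    simp only [map_mul, map_inv, (hD x).mp hx.2]
    group
  obtain ⟨u, huE, ⟨n, hn⟩, e, he, hue⟩ := hu
  haveI := CfsgLib.Components.quasisimple_nontrivial hE.2
  have hKne : δ ⟨u, huE⟩ ≠ 1 := fun h => by
    rw [hδ, mul_eq_one_iff_eq_inv] at h
    have h' : u * e = e * u := by
      have h1 := hcomm e he u huE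
      rw [← inv_inv (τ u), ← h] at h1
      exact (Commute.inv_right_iff.mp h1).eq.symm
    exact hue h'
  haveI : Nontrivial ↥K := K.nontrivial_iff_ne_bot.mpr fun h =>
    hKne ((mem_bot).mp (h ▸ (⟨⟨u, huE⟩, rfl⟩ : δ ⟨u, huE⟩ ∈ K)))
  have hKc : Cfsg.IsComponent (K.subgroupOf D) := by
    refine ⟨?_, CfsgLib.Components.isQuasisimple_of_mulEquiv
      (CfsgLib.Components.isQuasisimple_of_surjective hE.2 δ.rangeRestrict δ.rangeRestrict_surjective)
      (subgroupOfEquivOfLe hKD).symm⟩
    have h1 : ((S ⊓ D).subgroupOf D).IsSubnormal := by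
      rw [inf_subgroupOf_right]
      exact hSs.subgroupOf
    refine IsSubnormal.step _ _ (comap_mono (le_inf hKS hKD)) h1 ?_
    haveI : (K.subgroupOf (S ⊓ D)).Normal :=
      (normal_subgroupOf_iff_le_normalizer (le_inf hKS hKD)).mpr hKn
    refine (normal_subgroupOf_iff_le_normalizer (comap_mono (le_inf hKS hKD))).mpr ?_
    intro x hx
    refine Subgroup.mem_normalizer_fintype (S := (K.subgroupOf D : Set ↥D)) ?_
    intro k hk
    exact (mem_normalizer_iff.mp (hKn hx) (k : X)).mp hk
  haveI : (N.subgroupOf D).Normal := (normal_subgroupOf_iff_le_normalizer hND).mpr hDN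
  obtain h | h := CfsgLib.Components.le_or_commutator_eq_bot hKc
    (Subgroup.Normal.isSubnormal (inferInstance : (N.subgroupOf D).Normal))
  · refine absurd (eq_one_of_pow_two_pow hN
      (CfsgLib.Components.le_of_subgroupOf_le hKD h ⟨⟨u, huE⟩, rfl⟩) (n := n) ?_) hKne
    rw [← map_pow]
    convert map_one δ using 2
    exact Subtype.ext hn
  have hyK : ∀ a ∈ E, y * (a * τ a) = (a * τ a) * y := fun a ha =>
    (commutatorElement_eq_one_iff_mul_comm.mp ((eq_bot_iff_forall _).mp
      ((CfsgLib.Components.commutator_subgroupOf_eq_bot_iff hKD hND).mp h) _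
      (commutator_mem_commutator (show δ ⟨a, ha⟩ ∈ K from ⟨_, rfl⟩) hy))).symm
  set E' := E.map (MulAut.conj y).toMonoidHom with hE'
  have hτy : τ y = y := (hD y).mp (hND hy)
  have hE'c : Cfsg.IsComponent E' := CfsgLib.Components.isComponent_conj y hE
  have hnorm : y ∈ normalizer (E : Set X) := by
    rw [mem_normalizer_iff_map_conj_eq]
    show E' = E
    by_contra h1
    obtain h2 | h2 := ne_or_eq E' F
    · -- `E` would be abelian
      apply hue
      have hc : ∀ a ∈ E, ∀ b ∈ E, a * b = b * a := by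
        intro a ha b hb
        have hm : y * a * y⁻¹ ∈ E' := ⟨a, ha, rfl⟩
        have e1 := commutatorElement_eq_one_iff_mul_comm.mp ((eq_bot_iff_forall _).mp
          (CfsgLib.Components.commutator_components_eq_bot hE'c hE h1) _ (commutator_mem_commutator hm hb))
        have e2 := commutatorElement_eq_one_iff_mul_comm.mp ((eq_bot_iff_forall _).mp
          (CfsgLib.Components.commutator_components_eq_bot hE'c hFc h2) _
            (commutator_mem_commutator hm (⟨b, hb, rfl⟩ : τ b ∈ F)))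
        have e3 : (y * a * y⁻¹) * (b * τ b) = (b * τ b) * (y * a * y⁻¹) :=
          Commute.mul_right e1 e2
        have hconj : b * τ b = y * (b * τ b) * y⁻¹ := by rw [hyK b hb]; group
        rw [hconj] at e3
        have e4 : a * (b * τ b) = (b * τ b) * a := by
          refine (MulAut.conj y).injective ?_
          simp only [MulAut.conj_apply]
          calc y * (a * (b * τ b)) * y⁻¹ = y * a * y⁻¹ * (y * (b * τ b) * y⁻¹) := by group
            _ = y * (b * τ b) * y⁻¹ * (y * a * y⁻¹) := e3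
            _ = y * (b * τ b * a) * y⁻¹ := by group
        have e5 := hcomm a ha b hb
        rw [← mul_assoc, mul_assoc b, ← e5, ← mul_assoc] at e4
        exact mul_right_cancel e4
      exact hc u huE e he
    · -- `y` would interchange `E` and its image
      have hF' : F.map (MulAut.conj y).toMonoidHom = E := by
        have : (MulAut.conj y).toMonoidHom.comp τ.toMonoidHom =
            τ.toMonoidHom.comp (MulAut.conj y).toMonoidHom := by
          ext x; simp [hτy]
        rw [hF, map_map, this, ← map_map, ← hE', h2, hF, map_map]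
        ext x
        simp [hτ]
      have hy2 : y ^ 2 ∈ normalizer (E : Set X) := by
        rw [mem_normalizer_iff_map_conj_eq]
        show E.map (MulAut.conj (y ^ 2)).toMonoidHom = E
        rw [pow_two, ← CfsgLib.Components.map_conj_map_conj, ← hE', h2, hF']
      obtain ⟨k, hk⟩ := exists_pow_eq_self_of_coprime
        (hN.coprime_dvd_left (N.orderOf_dvd_natCard hy)).symm
      have hyn : y ∈ normalizer (E : Set X) := hk ▸ pow_mem hy2 k
      exact h1 (mem_normalizer_iff_map_conj_eq.mp hyn)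
  haveI : Group.IsPerfect ↥E := hE.2.1
  let α : ↥E ≃* ↥E := MulAut.conjNormal (H := E.subgroupOf (normalizer (E : Set X))) ⟨y, hnorm⟩ |>
    (subgroupOfEquivOfLe le_normalizer).symm.trans |>.trans (subgroupOfEquivOfLe le_normalizer)
  have hα : ∀ a : ↥E, (α a : X) = y * a * y⁻¹ := fun a => rfl
  have hαc : ∀ a : ↥E, α a * a⁻¹ ∈ center ↥E := by
    intro a
    rw [mem_center_iff]
    intro b
    apply Subtype.ext
    simp only [coe_mul, coe_inv, hα]
    have hca : y * a.1 * y⁻¹ ∈ E := (mem_normalizer_iff.mp hnorm a.1).mp a.2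
    have h3 : (y * a.1 * y⁻¹) * τ (y * a.1 * y⁻¹) = a.1 * τ a.1 := by
      simp only [map_mul, map_inv, hτy]
      calc y * a.1 * y⁻¹ * (y * τ a.1 * y⁻¹) = y * (a.1 * τ a.1) * y⁻¹ := by group
        _ = a.1 * τ a.1 := by rw [hyK a a.2]; group
    -- the two sides differ by an element of `E ⊓ F`
    have h4 : a.1⁻¹ * (y * a.1 * y⁻¹) = τ (a.1 * (y * a.1 * y⁻¹)⁻¹) := by
      rw [map_mul, map_inv, eq_mul_inv_iff_mul_eq, mul_assoc, h3]
      group
    have h5 : b.1 * (a.1⁻¹ * (y * a.1 * y⁻¹)) = (a.1⁻¹ * (y * a.1 * y⁻¹)) * b.1 := by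
      rw [h4]
      exact hcomm b b.2 _ (mul_mem a.2 (inv_mem hca))
    have h6 : y * a.1 * y⁻¹ * a.1⁻¹ = a.1⁻¹ * (y * a.1 * y⁻¹) := by
      have h5' : a.1 * (a.1⁻¹ * (y * a.1 * y⁻¹)) = (a.1⁻¹ * (y * a.1 * y⁻¹)) * a.1 := by
        rw [h4]
        exact hcomm a a.2 _ (mul_mem a.2 (inv_mem hca))
      rw [mul_inv_eq_iff_eq_mul, ← h5']
      group
    rw [h6]
    exact h5
  intro a ha
  have h := congrArg Subtype.val (Cfsg.Agent.S1304.result Group.IsPerfect.commutator_eq_top α hαc ⟨a, ha⟩)
  rw [hα] at h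
  exact mul_inv_eq_iff_eq_mul.mp h

/-- An invariant component is normalized by the odd normal subgroup of the fixed points. -/
theorem mem_normalizer_of_component_invariant (hD : ∀ x, x ∈ D ↔ τ x = x)
    (hND : N ≤ D) (hDN : D ≤ normalizer (N : Set X)) (hN : (Nat.card ↥N).Coprime 2)
    {y : X} (hy : y ∈ N) {E : Subgroup X} (hE : Cfsg.IsComponent E)
    (hu : ∃ u ∈ E, τ u ∈ E ∧ (∃ n : ℕ, u ^ 2 ^ n = 1) ∧ y * (u⁻¹ * τ u) = (u⁻¹ * τ u) * y ∧
      ∃ e ∈ E, u * e ≠ e * u) :
    y ∈ normalizer (E : Set X) := by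
  obtain ⟨u, huE, hτE, ⟨n, hn⟩, hz, e, he, hue⟩ := hu
  rw [mem_normalizer_iff_map_conj_eq]
  show E.map (MulAut.conj y).toMonoidHom = E
  by_contra h1
  have hconj : ∀ (g : X) (x : X), x ∈ E → g * x * g⁻¹ ∈ E.map (MulAut.conj g).toMonoidHom :=
    fun g x hx => ⟨x, hx, rfl⟩
  have hcommE : ∀ g : X, E.map (MulAut.conj g).toMonoidHom ≠ E →
      ∀ a ∈ E, ∀ b ∈ E, Commute a (g * b * g⁻¹) := fun g hg a ha b hb =>
    commutatorElement_eq_one_iff_mul_comm.mp ((eq_bot_iff_forall _).mp
      (CfsgLib.Components.commutator_components_eq_bot hE (CfsgLib.Components.isComponent_conj g hE) (Ne.symm hg)) _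
      (commutator_mem_commutator ha (hconj g b hb)))
  have h2 : E.map (MulAut.conj (y * y)).toMonoidHom ≠ E := fun h => by
    obtain ⟨k, hk⟩ := exists_pow_eq_self_of_coprime (hN.coprime_dvd_left (N.orderOf_dvd_natCard hy)).symm
    have h' : y ^ 2 ∈ normalizer (E : Set X) := by
      rw [mem_normalizer_iff_map_conj_eq, pow_two]; exact h
    have hyn : y ∈ normalizer (E : Set X) := hk ▸ pow_mem h' k
    exact h1 (mem_normalizer_iff_map_conj_eq.mp hyn)
  set v := y * u * y⁻¹ with hv
  set w := y * y * u * (y * y)⁻¹ with hw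
  have huv : Commute u v := hcommE y h1 u huE u huE
  have huw : Commute u w := hcommE (y * y) h2 u huE u huE
  have hvw : Commute v w := by
    have := huv.map (MulAut.conj y).toMonoidHom
    have e1 : (MulAut.conj y) v = w := by simp [hv, hw, mul_assoc]
    rw [← e1]
    exact this
  set z := u⁻¹ * τ u with hzdef
  have hτu : τ u = u * z := by rw [hzdef]; group
  have hzE : z ∈ E := mul_mem (inv_mem huE) hτE
  have hzy : z = y * z * y⁻¹ := by rw [hz]; group
  have hzu : Commute u z := by rw [hzy]; exact hcommE y h1 u huE z hzE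
  have hzv : Commute z v := hcommE y h1 z hzE u huE
  set d := u⁻¹ * v with hd
  have hdD : d ∈ D := by
    have hτv : τ v = v * z := by
      have hzy' : z * y⁻¹ = y⁻¹ * z := by
        calc z * y⁻¹ = y⁻¹ * (y * z) * y⁻¹ := by group
          _ = y⁻¹ * z := by rw [hz]; group
      calc τ v = y * (u * z) * y⁻¹ := by
            rw [hv, map_mul, map_mul, map_inv, (hD y).mp (hND hy), hτu]
        _ = y * u * (z * y⁻¹) := by group
        _ = v * z := by rw [hzy', hv]; group
    rw [hD, hd, map_mul, map_inv, hτu, hτv, ← hzv.eq, hzu.eq]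
    group
  have hm : d⁻¹ * (y * d * y⁻¹) ∈ N := by
    have h := (mem_normalizer_iff''.mp (hDN hdD) y).mp hy
    have := mul_mem h (inv_mem hy)
    simpa [mul_assoc] using this
  have hm1 : d⁻¹ * (y * d * y⁻¹) = v⁻¹ * u * (v⁻¹ * w) := by
    rw [hd, hv, hw]; group
  rw [hm1] at hm
  have h3 : v⁻¹ * u * (v⁻¹ * w) = 1 := by
    refine eq_one_of_pow_two_pow hN hm (n := n) ?_
    have hvn : v ^ 2 ^ n = 1 := by rw [hv, conj_pow, hn]; group
    have hwn : w ^ 2 ^ n = 1 := by rw [hw, conj_pow, hn]; group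
    have c1 : Commute (v⁻¹ * u) (v⁻¹ * w) :=
      Commute.mul_right ((Commute.refl v⁻¹).mul_left huv.inv_right) (hvw.inv_left.mul_left huw)
    rw [c1.mul_pow, (huv.symm.inv_left).mul_pow, hvw.inv_left.mul_pow, inv_pow, hvn, hn, hwn]
    simp
  have hu' : u = v * w⁻¹ * v := by
    calc u = v * (v⁻¹ * u * (v⁻¹ * w)) * (w⁻¹ * v) := by group
      _ = v * w⁻¹ * v := by rw [h3]; group
  refine hue ?_
  rw [hu']
  exact (((hcommE y h1 e he u huE).mul_right (hcommE (y * y) h2 e he u huE).inv_right).mul_right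
    (hcommE y h1 e he u huE)).eq.symm

end Fixed

end CfsgLib.Components39
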