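import Cfsg.Agent.Lib.Components.FStar
import Cfsg.Agent.Lib.Components.PComponent
import Mathlib.GroupTheory.Sylow

/-!
# Conjugation of p-components, the p-layer and `O_{p',p}`
-/

set_option autoImplicit false

namespace CfsgLib.Components39

open Subgroup CfsgLib.Components

variable {G : Type*} [Group G] [Finite G] {p : ℕ} [hp : Fact p.Prime]

local notation "π" => QuotientGroup.mk' (Cfsg.pPrimeCore p G)

theorem isPComponent_conj (g : G) {K : Subgroup G} (hK : Cfsg.IsPComponent p K) :
    Cfsg.IsPComponent p (K.map (MulAut.conj g).toMonoidHom) := by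
  have hconj : ∀ (a : G) (H : Subgroup G), (H.map (MulAut.conj a).toMonoidHom).map π =
      (H.map π).map (MulAut.conj (π a)).toMonoidHom := by
    intro a H
    rw [map_map, map_map]
    congr 1
  refine ⟨hK.1.map (MulAut.conj g).surjective, ?_, fun H hH hle hmap => ?_⟩
  · rw [hconj]
    exact isComponent_conj _ hK.2.1
  · have h1 : H.map (MulAut.conj g⁻¹).toMonoidHom = K := by
      refine hK.2.2 _ (hH.map (MulAut.conj g⁻¹).surjective) ?_ ?_
      · refine (map_mono hle).trans_eq ?_
        rw [map_map]
        convert Subgroup.map_id K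
        ext x; simp [MulAut.conj_apply, mul_assoc]
      · rw [hconj, hmap, hconj, map_map, map_inv]
        convert Subgroup.map_id (K.map π)
        ext x; simp [MulAut.conj_apply, mul_assoc]
    rw [← h1, map_map]
    symm
    convert Subgroup.map_id H
    ext x; simp [MulAut.conj_apply, mul_assoc]

theorem pLayer_normal_inst : (Cfsg.pLayer p G).Normal := by
  rw [← normalizer_eq_top_iff, eq_top_iff]
  exact CfsgLib.Structure.le_normalizer_sSup fun g _ _ hK => isPComponent_conj g hK

theorem map_pPrimePCore :
    (Cfsg.pPrimePCore p G).map π = Cfsg.pCore p (G ⧸ Cfsg.pPrimeCore p G) :=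
  map_comap_eq_self_of_surjective (QuotientGroup.mk'_surjective _) _

theorem pPrimeCore_le_pPrimePCore : Cfsg.pPrimeCore p G ≤ Cfsg.pPrimePCore p G := fun x hx => by
  rw [Cfsg.pPrimePCore, mem_comap]
  have : x ∈ (π).ker := by rwa [QuotientGroup.ker_mk']
  rw [MonoidHom.mem_ker.mp this]
  exact one_mem _

/-- `O_p(G / O_{p'}(G))` centralizes every component of that quotient. -/
theorem commutator_component_pCore {Kb : Subgroup (G ⧸ Cfsg.pPrimeCore p G)}
    (hK : Cfsg.IsComponent Kb) : ⁅Kb, Cfsg.pCore p (G ⧸ Cfsg.pPrimeCore p G)⁆ = ⊥ :=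
  component_commutator_solvable hK
    (haveI := (CfsgLib.PCore.pCore_isPGroup (p := p) (G := G ⧸ Cfsg.pPrimeCore p G)).isNilpotent
    inferInstance) le_normalizer_of_normal

/-- `O_{p',p}(G)` normalizes every p-component. -/
theorem pPrimePCore_le_normalizer {K : Subgroup G} (hK : Cfsg.IsPComponent p K) :
    Cfsg.pPrimePCore p G ≤ normalizer (K : Set G) := by
  rw [pComponent_eq hK]
  refine le_normalizer_pElemClosure (le_trans ?_ (le_normalizer_comap π))
  rw [Cfsg.pPrimePCore]
  refine comap_mono (le_trans ?_ (centralizer_le_normalizer _))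
  refine le_centralizer_of_commutator_eq_bot ?_
  rw [commutator_comm]
  exact commutator_component_pCore hK.2.1

end CfsgLib.Components39
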